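import Groth.Prelude.Def_QFDual
import Groth.Agent.NoetherOpen.Basic
import Mathlib.RingTheory.Ideal.AssociatedPrime.Localization
import Mathlib.RingTheory.Ideal.AssociatedPrime.Finiteness
import Mathlib.RingTheory.LocalRing.ResidueField.Ideal
import Mathlib.RingTheory.LocalRing.Module
import Mathlib.RingTheory.Support
import Mathlib.RingTheory.Flat.Basic
import Mathlib.RingTheory.IntegralClosure.IsIntegral.Basic
import Mathlib.RingTheory.Ideal.GoingUp
import Mathlib.AlgebraicGeometry.Scheme

noncomputable section

universe u v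

open TensorProduct AlgebraicGeometry

namespace Groth.Agent.QFDualLib

theorem mem_ass_iff {R : Type u} [CommRing R] [IsNoetherianRing R] {M : Type v} [AddCommGroup M] [Module R M]
    {p : Ideal R} : p ∈ associatedPrimes R M ↔ p.IsPrime ∧ ∃ x : M, ∀ r, r ∈ p ↔ r • x = 0 := by
  rw [AssociatedPrimes.mem_iff, isAssociatedPrime_iff]
  simp [SetLike.ext_iff, Submodule.mem_colon_singleton]

section Omega

variable (A : Type u) (B : Type v) [CommRing A] [CommRing B] [Algebra A B] [IsNoetherianRing A] [Module.Finite A B]

theorem finite_omega_of_noetherian : Module.Finite B (Disc.Omega A B) := by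
  classical
  obtain ⟨s, hs⟩ := (inferInstance : Module.Finite A (Module.Dual A B)).fg_top
  refine ⟨⟨s.image Disc.Omega.mk, ?_⟩⟩
  refine eq_top_iff.2 fun φ _ => ?_
  have hmem : φ.toLinearMap ∈ Submodule.span A (s : Set (Module.Dual A B)) := hs ▸ trivial
  suffices ∀ f ∈ Submodule.span A (s : Set (Module.Dual A B)),
      Disc.Omega.mk f ∈ Submodule.span B ((s.image Disc.Omega.mk : Finset (Disc.Omega A B)) : Set (Disc.Omega A B)) from
    this _ hmem
  intro f hf
  induction hf using Submodule.span_induction with
  | mem v hv => exact Submodule.subset_span (Finset.mem_image_of_mem _ hv)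
  | zero => exact zero_mem _
  | add a b _ _ ha hb => exact add_mem ha hb
  | smul r v _ hv =>
    have : Disc.Omega.mk (r • v) = algebraMap A B r • Disc.Omega.mk v :=
      Disc.Omega.ext (LinearMap.ext fun x => by
        change r • v x = v (algebraMap A B r * x)
        rw [← Algebra.smul_def, map_smul])
    rw [this]
    exact Submodule.smul_mem _ _ hv

theorem mem_ass_omega_iff (q : Ideal B) :
    q ∈ associatedPrimes B (Disc.Omega A B) ↔
      q.IsPrime ∧ q.comap (algebraMap A B) ∈ associatedPrimes A A := by
  classical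
  haveI : IsNoetherianRing B := IsNoetherianRing.of_finite A B
  rw [mem_ass_iff, and_congr_right_iff]
  intro hq
  haveI := hq
  set p := q.comap (algebraMap A B) with hp
  haveI : p.IsPrime := hq.comap _
  rw [mem_ass_iff]
  constructor
  · rintro ⟨φ, hφ⟩
    refine ⟨inferInstance, ?_⟩
    obtain ⟨s, hs⟩ := (inferInstance : Module.Finite A B).fg_top
    let ann := fun x : B => LinearMap.ker (LinearMap.toSpanSingleton A A (φ.toLinearMap x))
    have hiff : ∀ r, r ∈ p ↔ ∀ x : B, r * φ.toLinearMap x = 0 := by
      intro r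
      rw [hp, Ideal.mem_comap, hφ]
      constructor
      · intro h x
        have := LinearMap.congr_fun (congrArg Disc.Omega.toLinearMap h) x
        change φ.toLinearMap (algebraMap A B r * x) = 0 at this
        rwa [← Algebra.smul_def, map_smul, smul_eq_mul] at this
      · intro h
        refine Disc.Omega.ext (LinearMap.ext fun x => ?_)
        change φ.toLinearMap (algebraMap A B r * x) = 0
        rw [← Algebra.smul_def, map_smul, smul_eq_mul]
        exact h x
    have hinf : (s.inf ann : Ideal A) ≤ p := by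
      intro r hr
      rw [hiff]
      intro x
      have hx : x ∈ Submodule.span A (s : Set B) := hs ▸ trivial
      induction hx using Submodule.span_induction with
      | mem v hv => exact (Finset.inf_le hv : s.inf ann ≤ ann v) hr
      | zero => simp
      | add a b _ _ ha hb => rw [map_add, mul_add, ha, hb, add_zero]
      | smul c a _ ha => rw [map_smul, smul_eq_mul, mul_left_comm, ha, mul_zero]
    obtain ⟨x, -, hx⟩ := (Ideal.IsPrime.inf_le' inferInstance).1 hinf
    exact ⟨φ.toLinearMap x, fun r => ⟨fun h => (hiff r).1 h x, fun h => hx h⟩⟩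
  · rintro ⟨-, x, hx⟩
    let N := B ⧸ q
    let K := p.ResidueField
    have hsupp : (⟨p, inferInstance⟩ : PrimeSpectrum A) ∈ Module.support A N := by
      refine Module.mem_support_iff_of_finite.2 fun r hr => ?_
      have h1 := Module.mem_annihilator.1 hr (Ideal.Quotient.mk q 1)
      rw [Algebra.smul_def, map_one, mul_one, IsScalarTower.algebraMap_apply A B (B ⧸ q)] at h1
      exact (Ideal.Quotient.eq_zero_iff_mem (I := q)).1 h1
    haveI := (Module.mem_support_iff_nontrivial_residueField_tensorProduct _).1 hsupp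
    obtain ⟨w, hw⟩ := exists_ne (0 : p.ResidueField ⊗[A] N)
    obtain ⟨f, hf⟩ := not_forall.1 ((Module.forall_dual_apply_eq_zero_iff p.ResidueField w).not.2 hw)
    let F : N →ₗ[A] K := (f.restrictScalars A).comp (TensorProduct.mk A K N 1)
    obtain ⟨n₀, hn₀⟩ : ∃ n, F n ≠ 0 := by
      by_contra hcon
      push Not at hcon
      apply hf
      have : f = 0 := by
        refine TensorProduct.AlgebraTensorModule.ext fun c n => ?_
        rw [show c ⊗ₜ[A] n = c • ((1 : K) ⊗ₜ[A] n) by rw [TensorProduct.smul_tmul', smul_eq_mul, mul_one],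
          map_smul, show f ((1 : K) ⊗ₜ[A] n) = 0 from hcon n]
        simp
      rw [this, LinearMap.zero_apply]
    obtain ⟨s, hs⟩ := (inferInstance : Module.Finite A N).fg_top
    obtain ⟨d, hd⟩ := IsLocalization.exist_integer_multiples_of_finset (nonZeroDivisors (A ⧸ p)) (s.image F)
    obtain ⟨dA, hdA⟩ := Ideal.Quotient.mk_surjective (d : A ⧸ p)
    let ι : A ⧸ p →ₗ[A] K := (IsScalarTower.toAlgHom A (A ⧸ p) K).toLinearMap
    have hι : Function.Injective ι := IsFractionRing.injective (A ⧸ p) K
    have hint : ∀ n, (dA • F) n ∈ LinearMap.range ι := by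
      intro n
      have hn : n ∈ Submodule.span A (s : Set N) := hs ▸ trivial
      induction hn using Submodule.span_induction with
      | mem v hv =>
        obtain ⟨z, hz⟩ := hd (F v) (Finset.mem_image_of_mem _ hv)
        refine ⟨z, ?_⟩
        change algebraMap (A ⧸ p) K z = _
        rw [hz, LinearMap.smul_apply, ← hdA, ← Ideal.Quotient.algebraMap_eq, algebraMap_smul]
      | zero => simp
      | add a b _ _ ha hb => rw [map_add]; exact add_mem ha hb
      | smul c a _ ha => rw [map_smul]; exact Submodule.smul_mem _ c ha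
    obtain ⟨θ, hθ⟩ := isAssociatedPrime_iff_exists_injective_linearMap p A |>.1
      ((AssociatedPrimes.mem_iff).1 (mem_ass_iff.2 ⟨inferInstance, x, hx⟩)) |>.2
    let ψ : N →ₗ[A] A ⧸ p := ((LinearEquiv.ofInjective ι hι).symm.toLinearMap).comp ((dA • F).codRestrict _ hint)
    have hψ : ∀ n, ι (ψ n) = dA • F n := fun n =>
      congrArg Subtype.val ((LinearEquiv.ofInjective ι hι).apply_symm_apply ((dA • F).codRestrict _ hint n))
    have hdA0 : dA ∉ p := fun h => by
      have : (d : A ⧸ p) = 0 := by rw [← hdA, Ideal.Quotient.eq_zero_iff_mem.2 h]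
      exact nonZeroDivisors.coe_ne_zero d this
    have hψ0 : ψ n₀ ≠ 0 := by
      intro h
      have h1 := hψ n₀
      rw [h, map_zero, Algebra.smul_def] at h1
      rcases mul_eq_zero.1 h1.symm with h2 | h2
      · exact hdA0 (Ideal.algebraMap_residueField_eq_zero.1 h2)
      · exact hn₀ h2
    refine ⟨⟨θ.comp (ψ.comp (Ideal.Quotient.mkₐ A q).toLinearMap)⟩, fun b => ?_⟩
    constructor
    · intro hb
      refine Disc.Omega.ext (LinearMap.ext fun y => ?_)
      change θ (ψ (Ideal.Quotient.mk q (b * y))) = 0
      rw [Ideal.Quotient.eq_zero_iff_mem.2 (q.mul_mem_right y hb), map_zero, map_zero]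
    · intro hb
      by_contra hbq
      have hb' : ∀ y, ψ (Ideal.Quotient.mk q (b * y)) = 0 := fun y => hθ
        ((LinearMap.congr_fun (congrArg Disc.Omega.toLinearMap hb) y).trans (map_zero θ).symm)
      have hint' : IsIntegral A (Ideal.Quotient.mk q b) :=
        (Algebra.IsIntegral.isIntegral b).map (Ideal.Quotient.mkₐ A q)
      obtain ⟨a, ⟨g, hg⟩, ha0⟩ : ∃ a : A, (∃ g, Ideal.Quotient.mk q (b * g) = algebraMap A (B ⧸ q) a) ∧ a ∉ p := by
        have hne := Ideal.comap_ne_bot_of_root_mem (I := Ideal.span {Ideal.Quotient.mk q b})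
          (R := A ⧸ p) (S := B ⧸ q)
          (f := algebraMap (A ⧸ p) (B ⧸ q)) (r := Ideal.Quotient.mk q b)
          (fun h => hbq (Ideal.Quotient.eq_zero_iff_mem.1 h))
          (Ideal.mem_span_singleton_self _) (p := minpoly (A ⧸ p) (Ideal.Quotient.mk q b))
          (minpoly.ne_zero hint'.tower_top) (minpoly.aeval _ _)
        obtain ⟨z, hz, hz0⟩ := Submodule.exists_mem_ne_zero_of_ne_bot hne
        obtain ⟨a, rfl⟩ := Ideal.Quotient.mk_surjective z
        obtain ⟨g', hg'⟩ := Ideal.mem_span_singleton'.1 hz
        obtain ⟨g, rfl⟩ := Ideal.Quotient.mk_surjective g'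
        refine ⟨a, ⟨g, ?_⟩, fun h => hz0 (Ideal.Quotient.eq_zero_iff_mem.2 h)⟩
        rw [map_mul, mul_comm, hg']
        rfl
      obtain ⟨y, hy⟩ := Ideal.Quotient.mk_surjective n₀
      refine hψ0 ?_
      have h1 := hb' (g * y)
      rw [← mul_assoc, map_mul, hg, hy, ← Algebra.smul_def, map_smul] at h1
      obtain ⟨z, hz⟩ := Ideal.Quotient.mk_surjective (ψ n₀)
      rw [← hz] at h1 ⊢
      rw [Algebra.smul_def, Ideal.Quotient.algebraMap_eq, ← map_mul, Ideal.Quotient.eq_zero_iff_mem] at h1
      exact Ideal.Quotient.eq_zero_iff_mem.2 ((Ideal.IsPrime.mem_or_mem inferInstance h1).resolve_left ha0)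

end Omega

/-- Associated primes along a flat ring map with injective spectrum map. -/
theorem mem_ass_tensor_iff {R S : Type u} [CommRing R] [CommRing S] [Algebra R S] [IsNoetherianRing R]
    [IsNoetherianRing S] [Module.Flat R S]
    (hinj : Function.Injective (PrimeSpectrum.comap (algebraMap R S)))
    (M : Type u) [AddCommGroup M] [Module R M] [Module.Finite R M] (q : Ideal S) :
    q ∈ associatedPrimes S (S ⊗[R] M) ↔
      q.IsPrime ∧ q.comap (algebraMap R S) ∈ associatedPrimes R M := by
  classical
  constructor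
  · intro h
    have hq : q.IsPrime := h.1
    haveI := hq
    refine ⟨hq, ?_⟩
    obtain ⟨-, x, hx⟩ := mem_ass_iff.1 h
    set p := q.comap (algebraMap R S) with hp
    haveI : p.IsPrime := hq.comap _
    by_contra hpa
    have hfin := associatedPrimes.finite R M
    let T := hfin.toFinset.filter fun P => P ≤ p
    obtain ⟨a, hap, haT⟩ : ∃ a ∈ p, ∀ P ∈ T, a ∉ P := by
      by_contra hcon
      push Not at hcon
      have hsub : (p : Set R) ⊆ ⋃ P ∈ (T : Set (Ideal R)), (P : Set R) := fun a ha => by
        obtain ⟨P, hP, haP⟩ := hcon a ha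
        exact Set.mem_biUnion hP haP
      obtain ⟨P, hP, hpP⟩ := (Ideal.subset_union_prime p p (fun P hP _ _ =>
        ((hfin.mem_toFinset.1 (Finset.mem_filter.1 hP).1)).1)).1 hsub
      obtain ⟨hP1, hP2⟩ := Finset.mem_filter.1 hP
      exact hpa (le_antisymm hP2 hpP ▸ hfin.mem_toFinset.1 hP1)
    let μ : M →ₗ[R] M := LinearMap.lsmul R M a
    let K := LinearMap.ker μ
    obtain ⟨s, hsK, hsp⟩ : ∃ s, s ∈ Module.annihilator R K ∧ s ∉ p := by
      by_contra hcon
      push Not at hcon
      obtain ⟨P, hP, hPp⟩ := Ideal.exists_minimalPrimes_le (show Module.annihilator R K ≤ p from hcon)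
      have hPK := Module.associatedPrimes.minimalPrimes_annihilator_subset_associatedPrimes R K hP
      have hPM : P ∈ associatedPrimes R M :=
        associatedPrimes.subset_of_injective K.injective_subtype hPK
      have haP : a ∈ P := hP.1.2 (Module.mem_annihilator.2 fun m => Subtype.ext m.2)
      exact haT P (Finset.mem_filter.2 ⟨hfin.mem_toFinset.2 hPM, hPp⟩) haP
    have hex := Module.Flat.lTensor_exact (M := S) (LinearMap.exact_subtype_ker_map μ)
    have hax : μ.lTensor S x = 0 := by
      have : ∀ z : S ⊗[R] M, μ.lTensor S z = algebraMap R S a • z := by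
        intro z
        induction z using TensorProduct.induction_on with
        | zero => simp
        | tmul c m =>
          rw [LinearMap.lTensor_tmul, TensorProduct.smul_tmul', smul_eq_mul, ← Algebra.smul_def, TensorProduct.smul_tmul]
          rfl
        | add y z hy hz => rw [map_add, smul_add, hy, hz]
      rw [this]
      exact (hx _).1 hap
    obtain ⟨z, rfl⟩ := (hex x).1 hax
    refine hsp ((hx _).2 ?_)
    have h0 : ∀ z : S ⊗[R] K, algebraMap R S s • K.subtype.lTensor S z = 0 := by
      intro z
      induction z using TensorProduct.induction_on with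
      | zero => simp
      | tmul c m =>
        rw [LinearMap.lTensor_tmul, TensorProduct.smul_tmul', smul_eq_mul, ← Algebra.smul_def,
          TensorProduct.smul_tmul, ← map_smul, Module.mem_annihilator.1 hsK m, map_zero, TensorProduct.tmul_zero]
      | add y z hy hz => rw [map_add, smul_add, hy, hz, add_zero]
    exact h0 z
  · rintro ⟨hq, hp⟩
    haveI := hq
    set p := q.comap (algebraMap R S) with hpdef
    haveI : p.IsPrime := hq.comap _
    obtain ⟨-, f, hf⟩ := (isAssociatedPrime_iff_exists_injective_linearMap p M).1 hp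
    let g : S ⊗[R] (R ⧸ p) →ₗ[S] S ⊗[R] M := f.baseChange S
    have hg : Function.Injective g := Module.Flat.lTensor_preserves_injective_linearMap f hf
    refine associatedPrimes.subset_of_injective hg ?_
    refine Module.associatedPrimes.minimalPrimes_annihilator_subset_associatedPrimes S _ ⟨⟨hq, fun c hc => ?_⟩, ?_⟩
    · by_contra hcq
      have h1 := Module.mem_annihilator.1 hc (1 ⊗ₜ Ideal.Quotient.mk p 1)
      let χ : R ⧸ p →ₗ[R] S ⧸ q := (Ideal.quotientMapₐ (R₁ := R) q (Algebra.ofId R S) le_rfl).toLinearMap
      have h2 := congrArg (χ.liftBaseChange S) h1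
      rw [map_smul, LinearMap.liftBaseChange_tmul, map_zero, one_smul] at h2
      have h3 : χ (Ideal.Quotient.mk p 1) = 1 := map_one (Ideal.quotientMapₐ (R₁ := R) q (Algebra.ofId R S) le_rfl)
      rw [h3, Algebra.smul_def, mul_one, Ideal.Quotient.algebraMap_eq, Ideal.Quotient.eq_zero_iff_mem] at h2
      exact hcq h2
    · rintro P ⟨hP, hPann⟩ hPq
      haveI := hP
      have h1 : p ≤ P.comap (algebraMap R S) := by
        intro r hr
        refine hPann (Module.mem_annihilator.2 fun z => ?_)
        induction z using TensorProduct.induction_on with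
        | zero => simp
        | tmul c y =>
          obtain ⟨y, rfl⟩ := Ideal.Quotient.mk_surjective y
          rw [TensorProduct.smul_tmul', smul_eq_mul, ← Algebra.smul_def, TensorProduct.smul_tmul,
            Algebra.smul_def, Ideal.Quotient.algebraMap_eq, ← map_mul,
            Ideal.Quotient.eq_zero_iff_mem.2 (p.mul_mem_right y hr), TensorProduct.tmul_zero]
        | add y z hy hz => rw [smul_add, hy, hz, add_zero]
      have h2 : P.comap (algebraMap R S) = p := le_antisymm (Ideal.comap_mono hPq) h1
      have h3 := hinj (a₁ := ⟨P, hP⟩) (a₂ := ⟨q, hq⟩) (PrimeSpectrum.ext h2)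
      exact (congrArg PrimeSpectrum.asIdeal h3).ge

theorem ass_omega (A B' B : Type u) [CommRing A] [CommRing B'] [CommRing B] [IsNoetherianRing A]
    [IsNoetherianRing B] [Algebra A B'] [Algebra B' B] [Algebra A B] [IsScalarTower A B' B]
    (hf : QFDual.IsQFFactor A B' B) :
    associatedPrimes B (QFDual.omega A B' B) =
      {q : Ideal B | q.IsPrime ∧ q.comap (algebraMap A B) ∈ associatedPrimes A A} := by
  haveI := hf.finite
  haveI := hf.isOpenImmersion
  haveI : IsNoetherianRing B' := IsNoetherianRing.of_finite A B'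
  haveI := finite_omega_of_noetherian A B'
  haveI : Module.Flat B' B := RingHom.flat_algebraMap_iff.1 (NoetherOpen.flat_of_openImmersion hf.isOpenImmersion)
  have hinj : Function.Injective (PrimeSpectrum.comap (algebraMap B' B)) :=
    (Spec.map (CommRingCat.ofHom (algebraMap B' B))).isOpenEmbedding.injective
  ext q
  rw [mem_ass_tensor_iff hinj, mem_ass_omega_iff, Set.mem_ofPred_eq, Ideal.comap_comap,
    ← IsScalarTower.algebraMap_eq]
  exact ⟨fun h => ⟨h.1, h.2.2⟩, fun h => ⟨h.1, h.1.comap _, h.2⟩⟩

end Groth.Agent.QFDualLib
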