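import Groth.Prelude.Def_QFDual
import Groth.Prelude.Def_EGA4b
import Groth.Agent.Unram.Discriminant
import Mathlib.Algebra.Module.FinitePresentation
import Mathlib.RingTheory.Flat.EquationalCriterion
import Mathlib.RingTheory.Localization.BaseChange
import Mathlib.RingTheory.Localization.NormTrace
import Mathlib.LinearAlgebra.Matrix.Charpoly.Eigs
import Mathlib.FieldTheory.IsAlgClosed.AlgebraicClosure
import Mathlib.FieldTheory.IsAlgClosed.Spectrum

noncomputable section

universe u

open TensorProduct

namespace Groth.Agent.QFDualLib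

section BC

variable {A B' A₁ B'₁ : Type u} [CommRing A] [CommRing B'] [CommRing A₁] [CommRing B'₁]
  [Algebra A B'] [Algebra A A₁] [Algebra B' B'₁] [Algebra A₁ B'₁] [Algebra A B'₁]
  [IsScalarTower A A₁ B'₁] [IsScalarTower A B' B'₁]

theorem isBaseChange_toDual [Module.Flat A A₁] [Module.FinitePresentation A B']
    (h : Algebra.IsPushout A A₁ B' B'₁) : IsBaseChange A₁ h.out.toDual := by
  have h1 := Module.FinitePresentation.isBaseChange_map A B' A A₁
  let ee : ((A₁ ⊗[A] B') →ₗ[A₁] (A₁ ⊗[A] A)) ≃ₗ[A₁] Module.Dual A₁ B'₁ :=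
    LinearEquiv.arrowCongr h.out.equiv (TensorProduct.AlgebraTensorModule.rid A A₁ A₁)
  refine IsBaseChange.of_equiv (h1.equiv.trans ee) fun f => h.out.algHom_ext _ _ fun x => ?_
  rw [LinearEquiv.trans_apply, IsBaseChange.equiv_tmul, one_smul]
  refine Eq.trans ?_ (h.out.toDual_comp_apply f x).symm
  change (TensorProduct.AlgebraTensorModule.rid A A₁ A₁) ((LinearMap.baseChange A₁ f)
    (h.out.equiv.symm ((IsScalarTower.toAlgHom A B' B'₁).toLinearMap x))) = _
  rw [h.out.equiv_symm_apply]
  simp [Algebra.algebraMap_eq_smul_one]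

theorem bijective_bcFin_lift_of (h : Algebra.IsPushout A A₁ B' B'₁) (hd : IsBaseChange A₁ h.out.toDual) :
    ∃ G : B'₁ ⊗[B'] Disc.Omega A B' →ₗ[B'₁] Disc.Omega A₁ B'₁, Function.Bijective G ∧
      ∀ c φ, G (c ⊗ₜ[B'] φ) = c • QFDual.bcFin h φ := by
  letI : Module B' (Disc.Omega A₁ B'₁) := Module.compHom _ (algebraMap B' B'₁)
  haveI : IsScalarTower B' B'₁ (Disc.Omega A₁ B'₁) := IsScalarTower.of_algebraMap_smul fun _ _ => rfl
  let G : B'₁ ⊗[B'] Disc.Omega A B' →ₗ[B'₁] Disc.Omega A₁ B'₁ :=
    TensorProduct.AlgebraTensorModule.lift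
      { toFun := fun c =>
          { toFun := fun φ => c • QFDual.bcFin h φ
            map_add' := fun φ ψ => by simp
            map_smul' := fun b φ => by
              rw [LinearMap.map_smulₛₗ, RingHom.id_apply, smul_comm c, algebraMap_smul] }
        map_add' := fun a b => LinearMap.ext fun φ => add_smul a b _
        map_smul' := fun a b => LinearMap.ext fun φ => mul_smul a b _ }
  have hG : ∀ c φ, G (c ⊗ₜ[B'] φ) = c • QFDual.bcFin h φ := fun _ _ => rfl
  let k0 : A₁ →+ Module.Dual A B' →+ B'₁ ⊗[B'] Disc.Omega A B' :=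
    AddMonoidHom.mk' (fun a => AddMonoidHom.mk' (fun f => algebraMap A₁ B'₁ a ⊗ₜ[B'] Disc.Omega.mk f)
      fun f g => by rw [← TensorProduct.tmul_add]; rfl) fun a b => by
        ext f; simp [TensorProduct.add_tmul]
  let κ : A₁ ⊗[A] Module.Dual A B' →+ B'₁ ⊗[B'] Disc.Omega A B' :=
    TensorProduct.liftAddHom k0 fun r a f => by
      change algebraMap A₁ B'₁ (r • a) ⊗ₜ[B'] Disc.Omega.mk f =
        algebraMap A₁ B'₁ a ⊗ₜ[B'] Disc.Omega.mk (r • f)
      rw [show algebraMap A₁ B'₁ (r • a) = algebraMap A B' r • algebraMap A₁ B'₁ a by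
          rw [Algebra.smul_def, map_mul, ← IsScalarTower.algebraMap_apply, Algebra.smul_def,
            ← IsScalarTower.algebraMap_apply],
        TensorProduct.smul_tmul]
      congr 1
      refine Disc.Omega.ext (LinearMap.ext fun x => ?_)
      change f (algebraMap A B' r * x) = (r • f) x
      rw [← Algebra.smul_def, map_smul, LinearMap.smul_apply]
  have hcomp : ∀ z, G (κ z) = Disc.Omega.mk (hd.equiv z) := by
    intro z
    induction z using TensorProduct.induction_on with
    | zero => simp; rfl
    | tmul a f =>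
      change G (algebraMap A₁ B'₁ a ⊗ₜ[B'] Disc.Omega.mk f) = _
      rw [hG, IsBaseChange.equiv_tmul]
      refine Disc.Omega.ext (LinearMap.ext fun x => ?_)
      change (QFDual.bcFin h ⟨f⟩).toLinearMap (algebraMap A₁ B'₁ a * x) = a • h.out.toDual f x
      rw [← Algebra.smul_def, map_smul]
      rfl
    | add x y hx hy => rw [map_add, map_add, map_add, hx, hy]; rfl
  have hsurj : Function.Surjective κ := by
    have key : ∀ (c : B'₁) φ, c ⊗ₜ[B'] φ ∈ κ.range := by
      intro c
      induction c using h.out.inductionOn with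
      | zero => intro φ; rw [TensorProduct.zero_tmul]; exact zero_mem _
      | tmul b =>
        intro φ
        refine ⟨1 ⊗ₜ (b • φ).toLinearMap, ?_⟩
        change algebraMap A₁ B'₁ 1 ⊗ₜ[B'] (b • φ) = _
        rw [map_one, ← TensorProduct.smul_tmul, Algebra.smul_def, mul_one]
        rfl
      | smul a c hc =>
        intro φ
        obtain ⟨z, hz⟩ := hc φ
        have hsm : ∀ w : A₁ ⊗[A] Module.Dual A B', κ (a • w) = algebraMap A₁ B'₁ a • κ w := by
          intro w
          induction w using TensorProduct.induction_on with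
          | zero => simp
          | tmul a' f =>
            change algebraMap A₁ B'₁ (a * a') ⊗ₜ[B'] _ = algebraMap A₁ B'₁ a • (algebraMap A₁ B'₁ a' ⊗ₜ[B'] _)
            rw [TensorProduct.smul_tmul', smul_eq_mul, map_mul]
            rfl
          | add x y hx hy => rw [smul_add, map_add, map_add, smul_add, hx, hy]
        refine ⟨a • z, ?_⟩
        rw [hsm, hz, TensorProduct.smul_tmul', smul_eq_mul, Algebra.smul_def]
      | add c d hc hd => intro φ; rw [TensorProduct.add_tmul]; exact add_mem (hc φ) (hd φ)
    intro w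
    induction w using TensorProduct.induction_on with
    | zero => exact ⟨0, map_zero κ⟩
    | tmul c φ => exact key c φ
    | add x y hx hy =>
      obtain ⟨a, rfl⟩ := hx
      obtain ⟨b, rfl⟩ := hy
      exact ⟨a + b, map_add κ a b⟩
  refine ⟨G, ⟨fun x y hxy => ?_, fun φ => ?_⟩, hG⟩
  · obtain ⟨a, rfl⟩ := hsurj x
    obtain ⟨b, rfl⟩ := hsurj y
    rw [hcomp, hcomp] at hxy
    rw [hd.equiv.injective (congrArg Disc.Omega.toLinearMap hxy)]
  · exact ⟨κ (hd.equiv.symm φ.toLinearMap), by rw [hcomp, LinearEquiv.apply_symm_apply]⟩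

theorem bijective_bcFin_lift [Module.Flat A A₁] [Module.FinitePresentation A B']
    (h : Algebra.IsPushout A A₁ B' B'₁) :
    ∃ G : B'₁ ⊗[B'] Disc.Omega A B' →ₗ[B'₁] Disc.Omega A₁ B'₁, Function.Bijective G ∧
      ∀ c φ, G (c ⊗ₜ[B'] φ) = c • QFDual.bcFin h φ :=
  bijective_bcFin_lift_of h (isBaseChange_toDual h)

theorem bijective_omegaBC [Module.Flat A A₁] [Module.FinitePresentation A B']
    (h : Algebra.IsPushout A A₁ B' B'₁) {B₁ : Type u} [CommRing B₁] [Algebra B'₁ B₁] [Algebra B' B₁]
    [IsScalarTower B' B'₁ B₁] : Function.Bijective (QFDual.omegaBC (B₁ := B₁) h) := by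
  obtain ⟨G, hG, hGt⟩ := bijective_bcFin_lift h
  let e := (TensorProduct.AlgebraTensorModule.cancelBaseChange B' B'₁ B'₁ B₁ (Disc.Omega A B')).symm.toEquiv.trans
    (TensorProduct.congr (LinearEquiv.refl B'₁ B₁) (LinearEquiv.ofBijective G hG)).toEquiv
  have he : ∀ z, QFDual.omegaBC (B₁ := B₁) h z = e z := by
    intro z
    obtain ⟨w, rfl⟩ := (TensorProduct.AlgebraTensorModule.cancelBaseChange B' B'₁ B'₁ B₁ (Disc.Omega A B')).surjective z
    change _ = TensorProduct.congr _ _
      ((TensorProduct.AlgebraTensorModule.cancelBaseChange B' B'₁ B'₁ B₁ (Disc.Omega A B')).symm _)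
    rw [LinearEquiv.symm_apply_apply]
    induction w using TensorProduct.induction_on with
    | zero => simp
    | tmul b v =>
      induction v using TensorProduct.induction_on with
      | zero => simp
      | tmul c φ =>
        rw [TensorProduct.AlgebraTensorModule.cancelBaseChange_tmul, QFDual.omegaBC_tmul,
          TensorProduct.congr_tmul, LinearEquiv.ofBijective_apply, hGt, LinearEquiv.refl_apply,
          TensorProduct.smul_tmul]
      | add x y hx hy =>
        rw [TensorProduct.tmul_add, map_add, map_add, map_add, hx, hy]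
    | add x y hx hy => rw [map_add, map_add, map_add, hx, hy]
  rw [show ⇑(QFDual.omegaBC (B₁ := B₁) h) = e from funext he]
  exact e.bijective

end BC

section Dedekind

variable {A K B L : Type u} [CommRing A] [CommRing K] [CommRing B] [CommRing L] [Algebra A K]
  [Algebra A B] [Algebra B L] [Algebra K L] [Algebra A L] [IsScalarTower A K L] [IsScalarTower A B L]

theorem isPushout (h : QFDual.IsDedekindDefined A K B L) : Algebra.IsPushout A K B L := by
  haveI := h.isFractionRing
  haveI := h.isLocalization
  haveI : IsLocalization (nonZeroDivisors A) K := h.isFractionRing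
  exact (Algebra.isPushout_of_isLocalization (nonZeroDivisors A) K B L).symm

theorem one_mem_iff : (1 : L) ∈ QFDual.complementary A K B L ↔
    ∀ b : B, Algebra.trace K L (algebraMap B L b) ∈ (algebraMap A K).range :=
  forall_congr' fun b => by rw [one_mul]

theorem one_mem_of_flat [Module.Flat A B] (h : QFDual.IsDedekindDefined A K B L) :
    (1 : L) ∈ QFDual.complementary A K B L := by
  classical
  haveI := h.isNoetherianRing
  haveI := h.finite
  haveI := h.free
  haveI := h.finiteKL
  haveI : Module.FinitePresentation A B := Module.finitePresentation_of_finite A B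
  haveI : Module.Projective A B := Module.Flat.projective_of_finitePresentation
  have hp := (isPushout h).out
  obtain ⟨n, π, hπ⟩ := Module.Finite.exists_fin' A B
  obtain ⟨s, hs⟩ := Module.projective_lifting_property π LinearMap.id hπ
  rw [one_mem_iff]
  intro b
  let hK : L →ₗ[K] (Fin n → K) := hp.lift (((Algebra.linearMap A K).compLeft (Fin n)).comp s)
  let g : (Fin n → K) →ₗ[K] L :=
    Fintype.linearCombination K fun i => algebraMap B L (π (Pi.single i 1))
  have hhK : ∀ x, hK (algebraMap B L x) = fun i => algebraMap A K (s x i) := fun x => hp.lift_eq _ x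
  have hgh : g.comp hK = LinearMap.id := by
    refine hp.algHom_ext _ _ fun x => ?_
    change g (hK (algebraMap B L x)) = algebraMap B L x
    rw [hhK]
    simp only [g, Fintype.linearCombination_apply, algebraMap_smul]
    have hx' : π (s x) = x := LinearMap.congr_fun hs x
    conv_rhs => rw [← hx', pi_eq_sum_univ' (s x), map_sum, map_sum]
    refine Finset.sum_congr rfl fun i _ => ?_
    rw [map_smul]
    exact ((IsScalarTower.toAlgHom A B L).toLinearMap.map_smul _ _).symm
  let f := LinearMap.mulLeft K (algebraMap B L b)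
  have ht : Algebra.trace K L (algebraMap B L b) = LinearMap.trace K _ (hK ∘ₗ f ∘ₗ g) := by
    rw [Algebra.trace_apply, LinearMap.trace_comp_comm', LinearMap.comp_assoc, hgh, LinearMap.comp_id]
    rfl
  rw [ht, LinearMap.trace_eq_matrix_trace K (Pi.basisFun K (Fin n))]
  refine Subring.sum_mem _ fun i _ => ⟨s (b * π (Pi.single i 1)) i, ?_⟩
  rw [Matrix.diag_apply, LinearMap.toMatrix_apply, Pi.basisFun_apply, Pi.basisFun_repr,
    LinearMap.comp_apply, LinearMap.comp_apply]
  simp only [f, g, Fintype.linearCombination_apply_single, one_smul, LinearMap.mulLeft_apply]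
  rw [← map_mul, hhK]

theorem isIntegral_map_trace_matrix {n : Type*} [Fintype n] [DecidableEq n] {Ω : Type u} [Field Ω]
    [IsAlgClosed Ω] [Algebra A Ω] (M : Matrix n n Ω) (hM : IsIntegral A M) : IsIntegral A M.trace := by
  obtain ⟨f, hf, hf0⟩ := hM
  rw [Matrix.trace_eq_sum_roots_charpoly]
  refine IsIntegral.multiset_sum fun l hl => ⟨f, hf, ?_⟩
  have hl' : l ∈ spectrum Ω M :=
    Matrix.mem_spectrum_iff_isRoot_charpoly.2 (Polynomial.isRoot_of_mem_roots hl)
  have h0 := spectrum.subset_polynomial_aeval M (f.map (algebraMap A Ω)) ⟨l, hl', rfl⟩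
  rw [Polynomial.aeval_map_algebraMap, show Polynomial.aeval M f = 0 from hf0] at h0
  rcases isEmpty_or_nonempty n with hn | hn
  · exact absurd hl' (by simp [spectrum.of_subsingleton])
  · rw [spectrum.zero_eq, Set.mem_singleton_iff] at h0
    simp only [Polynomial.eval_map] at h0
    exact h0

theorem one_mem_of_isNormalRing (h : QFDual.IsDedekindDefined A K B L) (hA : EGA4.IsNormalRing A) :
    (1 : L) ∈ QFDual.complementary A K B L := by
  classical
  haveI := h.finite
  haveI := h.free
  haveI := h.finiteKL
  haveI : IsLocalization (nonZeroDivisors A) K := h.isFractionRing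
  rw [one_mem_iff]
  intro b
  set x := Algebra.trace K L (algebraMap B L b) with hx
  let bas := Module.Free.chooseBasis K L
  have hM : IsIntegral A (Algebra.leftMulMatrix bas (algebraMap B L b)) :=
    ((Algebra.IsIntegral.isIntegral b).map (IsScalarTower.toAlgHom A B L)).map
      ((Algebra.leftMulMatrix bas).restrictScalars A)
  obtain ⟨c, d, hcd⟩ := IsLocalization.exists_mk'_eq (nonZeroDivisors A) x
  let N : Ideal A :=
    { carrier := {a | (a • x : K) ∈ (algebraMap A K).range}
      zero_mem' := ⟨0, by simp⟩
      add_mem' := fun {a a'} ha ha' => by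
        change ((a + a') • x : K) ∈ (algebraMap A K).range
        rw [add_smul]
        exact add_mem ha ha'
      smul_mem' := fun r a ha => by
        obtain ⟨z, hz⟩ := ha
        exact ⟨r * z, by rw [map_mul, hz, smul_eq_mul, mul_smul, Algebra.smul_def r]⟩ }
  suffices hN : N = ⊤ by
    have h1 : (1 : A) • x ∈ (algebraMap A K).range := (hN ▸ trivial : (1 : A) ∈ N)
    rwa [one_smul] at h1
  by_contra hne
  obtain ⟨p, hp, hNp⟩ := Ideal.exists_le_maximal N hne
  haveI := (hA p).1
  haveI := (hA p).2
  let Ap := Localization.AtPrime p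
  let F := FractionRing Ap
  let Ω := AlgebraicClosure F
  have hnz : ∀ a : nonZeroDivisors A, IsUnit (algebraMap A F a) := fun a => by
    have h1 : algebraMap A Ap a ∈ nonZeroDivisors Ap :=
      IsLocalization.map_nonZeroDivisors_le p.primeCompl Ap ⟨a, a.2, rfl⟩
    rw [IsScalarTower.algebraMap_apply A Ap F]
    exact IsLocalization.map_units F (⟨_, h1⟩ : nonZeroDivisors Ap)
  let γ : K →ₐ[A] F :=
    { (IsLocalization.lift (M := nonZeroDivisors A) (S := K) hnz : K →+* F) with
      commutes' := fun a => IsLocalization.lift_eq hnz a }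
  let δ : K →ₐ[A] Ω := (IsScalarTower.toAlgHom A F Ω).comp γ
  have hint : IsIntegral A (δ x) := by
    have h1 := isIntegral_map_trace_matrix (A := A) _ (hM.map δ.mapMatrix)
    have h2 : (δ.mapMatrix (Algebra.leftMulMatrix bas (algebraMap B L b))).trace = δ x := by
      rw [hx, Algebra.trace_eq_matrix_trace bas, AlgHom.mapMatrix_apply]
      exact (AddMonoidHom.map_trace δ.toRingHom.toAddMonoidHom _).symm
    rwa [h2] at h1
  have hintF : IsIntegral Ap (γ x) :=
    ((isIntegral_algHom_iff (IsScalarTower.toAlgHom A F Ω) (algebraMap F Ω).injective).1 hint).tower_top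
  obtain ⟨w, hw⟩ := IsIntegrallyClosed.isIntegral_iff.1 hintF
  obtain ⟨a, s, rfl⟩ := IsLocalization.exists_mk'_eq p.primeCompl w
  have hdx : algebraMap A K d * x = algebraMap A K c := by
    rw [← hcd, mul_comm, IsLocalization.mk'_spec]
  have heq : algebraMap A Ap ((s : A) * c) = algebraMap A Ap ((d : A) * a) := by
    refine IsFractionRing.injective Ap F ?_
    rw [← IsScalarTower.algebraMap_apply, ← IsScalarTower.algebraMap_apply, map_mul, map_mul]
    have h1 := congrArg γ hdx
    rw [map_mul, AlgHom.commutes, AlgHom.commutes] at h1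
    have h2 : algebraMap A F a = algebraMap A F (s : A) * γ x := by
      rw [← hw, IsScalarTower.algebraMap_apply A Ap F, IsScalarTower.algebraMap_apply A Ap F, ← map_mul,
        mul_comm, IsLocalization.mk'_spec]
    rw [h2, ← h1]
    ring
  obtain ⟨t, ht⟩ := (IsLocalization.eq_iff_exists p.primeCompl Ap).1 heq
  refine (p.primeCompl.mul_mem t.2 s.2) (hNp ⟨(t : A) * a, ?_⟩)
  have hu := IsLocalization.map_units K d
  refine hu.mul_left_cancel ?_
  rw [Algebra.smul_def, mul_left_comm, hdx, ← map_mul, ← map_mul, mul_assoc, ht]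
  congr 1
  ring

theorem exists_equiv (h : QFDual.IsDedekindDefined A K B L) :
    ∃ e : QFDual.complementary A K B L ≃ₗ[B] Disc.Omega A B,
      ∀ (x : QFDual.complementary A K B L) (b : B),
        algebraMap A K ((e x).toLinearMap b) = Algebra.trace K L ((x : L) * algebraMap B L b) := by
  haveI := h.etale
  haveI := h.free
  haveI := h.finiteKL
  haveI := h.isFractionRing
  have hbij := (Groth.Agent.Unram.etale_iff_bijective_traceForm (A := K) (B := L)).1 inferInstance
  have hp := (isPushout h).out
  have hinj : Function.Injective (algebraMap A K) := IsFractionRing.injective A K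
  have hex : ∀ (x : QFDual.complementary A K B L) (b : B), ∃ a : A,
      algebraMap A K a = Algebra.trace K L ((x : L) * algebraMap B L b) := fun x b => x.2 b
  choose v hv using hex
  let T : QFDual.complementary A K B L →ₗ[B] Disc.Omega A B :=
    { toFun := fun x => ⟨{ toFun := v x
                           map_add' := fun b b' => hinj (by simp [hv, mul_add])
                           map_smul' := fun r b => hinj (by
                            rw [hv, RingHom.id_apply, smul_eq_mul, map_mul (algebraMap A K), hv, Algebra.smul_def r b,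
                              map_mul (algebraMap B L), ← IsScalarTower.algebraMap_apply, IsScalarTower.algebraMap_apply A K L,
                              mul_left_comm, ← Algebra.smul_def, map_smul, smul_eq_mul]) }⟩
      map_add' := fun x y => Disc.Omega.ext (LinearMap.ext fun b => hinj (by simp [hv, add_mul]))
      map_smul' := fun c x => Disc.Omega.ext (LinearMap.ext fun b => hinj (by
        change algebraMap A K (v _ b) = algebraMap A K (v x (c * b))
        rw [hv, hv, Submodule.coe_smul, Algebra.smul_def, map_mul (algebraMap B L)]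
        congr 1
        ring)) }
  have hT : ∀ x b, algebraMap A K ((T x).toLinearMap b) = Algebra.trace K L ((x : L) * algebraMap B L b) := hv
  refine ⟨LinearEquiv.ofBijective T ⟨fun x y hxy => ?_, fun φ => ?_⟩, hT⟩
  · refine Subtype.ext (hbij.1 (hp.algHom_ext _ _ fun b => ?_))
    exact (hT x b).symm.trans ((congrArg (fun φ => algebraMap A K (Disc.Omega.toLinearMap φ b)) hxy).trans (hT y b))
  · let Φ : L →ₗ[K] K := hp.lift ((Algebra.linearMap A K).comp φ.toLinearMap)
    obtain ⟨x, hx⟩ := hbij.2 Φ
    have hxb : ∀ b, Algebra.trace K L (x * algebraMap B L b) = algebraMap A K (φ.toLinearMap b) :=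
      fun b => (LinearMap.congr_fun hx (algebraMap B L b)).trans (hp.lift_eq _ b)
    refine ⟨⟨x, fun b => ⟨_, (hxb b).symm⟩⟩, Disc.Omega.ext (LinearMap.ext fun b => hinj ?_)⟩
    rw [hT]
    exact hxb b

theorem dedekindDifferent_eq (h : QFDual.IsDedekindDefined A K B L) [Module.Finite A B] [Module.Free A B] :
    QFDual.dedekindDifferent A K B L =
      Submodule.map (Algebra.linearMap B L) (QFDual.different B (Disc.Omega.trace A B)) := by
  haveI : IsLocalization (nonZeroDivisors A) K := h.isFractionRing
  haveI := h.isLocalization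
  obtain ⟨e, he⟩ := exists_equiv h
  have hinj : Function.Injective (algebraMap A K) := IsFractionRing.injective A K
  have htr := fun b => Algebra.trace_localization A (nonZeroDivisors A) (Rₘ := K) (Sₘ := L) (S := B) b
  have h1 : (1 : L) ∈ QFDual.complementary A K B L := one_mem_iff.2 fun b => ⟨_, (htr b).symm⟩
  have he1 : e ⟨1, h1⟩ = Disc.Omega.trace A B :=
    Disc.Omega.ext (LinearMap.ext fun b => hinj (by rw [he]; simpa [Disc.Omega.trace] using htr b))
  have key : ∀ r : B, r ∈ QFDual.different B (Disc.Omega.trace A B) ↔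
      algebraMap B L r ∈ QFDual.dedekindDifferent A K B L := by
    intro r
    rw [QFDual.mem_different_iff]
    constructor
    · intro hr y hy
      obtain ⟨c, hc⟩ := hr (e ⟨y, hy⟩)
      rw [← he1, ← map_smul, ← map_smul] at hc
      have := congrArg Subtype.val (e.injective hc)
      refine ⟨c, ?_⟩
      simpa [Algebra.smul_def] using this
    · intro hr m
      obtain ⟨⟨y, hy⟩, rfl⟩ := e.surjective m
      obtain ⟨c, hc⟩ := hr y hy
      refine ⟨c, ?_⟩
      rw [← he1, ← map_smul, ← map_smul]
      congr 1
      refine Subtype.ext ?_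
      simpa [Algebra.smul_def] using hc
  refine le_antisymm (fun z hz => ?_) ?_
  · obtain ⟨r, hr⟩ := hz 1 h1
    rw [mul_one] at hr
    exact ⟨r, (key r).2 (hr ▸ hz), hr⟩
  · rintro z ⟨r, hr, rfl⟩
    exact (key r).1 hr

end Dedekind

end Groth.Agent.QFDualLib
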