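import Groth.Agent.QFDualLib.Basic
import Mathlib.RingTheory.PicardGroup
import Mathlib.RingTheory.Support
import Mathlib.RingTheory.LocalRing.Module
import Mathlib.RingTheory.Noetherian.Basic
import Mathlib.LinearAlgebra.TensorProduct.Pi

noncomputable section

universe u

open TensorProduct

namespace Groth.Agent.QFDualLib

theorem finite_omega (A B : Type u) [CommRing A] [CommRing B] [Algebra A B] [Module.Finite A B] [Module.Free A B] :
    Module.Finite B (Disc.Omega A B) := by
  obtain ⟨s, hs⟩ := (inferInstance : Module.Finite A (Module.Dual A B)).fg_top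
  classical
  refine ⟨⟨s.image Disc.Omega.mk, ?_⟩⟩
  refine eq_top_iff.2 fun φ _ => ?_
  have : φ.toLinearMap ∈ Submodule.span A (s : Set (Module.Dual A B)) := hs ▸ trivial
  suffices ∀ f ∈ Submodule.span A (s : Set (Module.Dual A B)),
      Disc.Omega.mk f ∈ Submodule.span B ((s.image Disc.Omega.mk : Finset (Disc.Omega A B)) : Set (Disc.Omega A B)) from
    this _ ‹_›
  intro f hf
  induction hf using Submodule.span_induction with
  | mem v hv => exact Submodule.subset_span (Finset.mem_image_of_mem _ hv)
  | zero => exact zero_mem _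
  | add a b _ _ ha hb => exact add_mem ha hb
  | smul r v _ hv =>
    have : Disc.Omega.mk (r • v) = algebraMap A B r • Disc.Omega.mk v :=
      Disc.Omega.ext (LinearMap.ext fun x => by
        change r • v x = v (algebraMap A B r * x)
        rw [← Algebra.smul_def, map_smul])
    rw [this]
    exact Submodule.smul_mem _ _ hv

variable {A B A' B' : Type u} [CommRing A] [CommRing B] [CommRing A'] [CommRing B']
  [Algebra A B] [Module.Finite A B] [Module.Free A B] [Algebra A A'] [Algebra B B'] [Algebra A' B']
  [Algebra A B'] [IsScalarTower A A' B'] [IsScalarTower A B B'] [Module.Finite A' B'] [Module.Free A' B']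

theorem bcFin_trace (h : Algebra.IsPushout A A' B B') :
    QFDual.bcFin h (Disc.Omega.trace A B) = Disc.Omega.trace A' B' := by
  classical
  refine Disc.Omega.ext (h.out.algHom_ext _ _ fun x => ?_)
  change (QFDual.bcFin h (Disc.Omega.trace A B)).toLinearMap (algebraMap B B' x) =
    Algebra.trace A' B' (algebraMap B B' x)
  rw [QFDual.bcFin_apply_algebraMap]
  let b := Module.Free.chooseBasis A B
  change algebraMap A A' (Algebra.trace A B x) = _
  rw [Algebra.trace_eq_matrix_trace b, Algebra.trace_eq_matrix_trace (h.out.basis b)]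
  simp only [Matrix.trace, Matrix.diag_apply, map_sum, Algebra.leftMulMatrix_eq_repr_mul]
  refine Finset.sum_congr rfl fun i _ => ?_
  rw [IsBaseChange.basis_apply]
  change _ = (h.out.basis b).repr (algebraMap B B' x * algebraMap B B' (b i)) i
  rw [← map_mul]
  exact (IsBaseChange.basis_repr_comp_apply (ibc := h.out) b (x * b i) i).symm

theorem exists_G (h : Algebra.IsPushout A A' B B') :
    ∃ G : B' ⊗[B] Disc.Omega A B →ₗ[B'] Disc.Omega A' B', Function.Bijective G ∧
      (∀ c φ, G (c ⊗ₜ[B] φ) = c • QFDual.bcFin h φ) ∧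
      G (1 ⊗ₜ[B] Disc.Omega.trace A B) = Disc.Omega.trace A' B' := by
  obtain ⟨G, hG, hGt⟩ := bijective_bcFin_lift_of h h.out.dual
  exact ⟨G, hG, hGt, by rw [hGt, one_smul, bcFin_trace]⟩

theorem map_different_le (h : Algebra.IsPushout A A' B B') :
    Ideal.map (algebraMap B B') (QFDual.different B (Disc.Omega.trace A B)) ≤
      QFDual.different B' (Disc.Omega.trace A' B') := by
  obtain ⟨G, hG, hGt, hGτ⟩ := exists_G h
  refine Ideal.map_le_iff_le_comap.2 fun r hr => ?_
  rw [QFDual.mem_different_iff] at hr
  rw [Ideal.mem_comap, QFDual.mem_different_iff]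
  intro m
  obtain ⟨z, rfl⟩ := hG.2 m
  induction z using TensorProduct.induction_on with
  | zero => exact ⟨0, by simp⟩
  | tmul c φ =>
    obtain ⟨d, hd⟩ := hr φ
    refine ⟨c * algebraMap B B' d, ?_⟩
    rw [← hGτ, ← map_smul G, ← map_smul G]
    congr 1
    rw [TensorProduct.smul_tmul', TensorProduct.smul_tmul', smul_eq_mul, smul_eq_mul, mul_one,
      mul_comm c, mul_comm (algebraMap B B' r) c, ← Algebra.smul_def, TensorProduct.smul_tmul, hd,
      ← TensorProduct.smul_tmul, Algebra.smul_def, mul_comm c]
  | add x y hx hy =>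
    obtain ⟨a, ha⟩ := hx
    obtain ⟨b, hb⟩ := hy
    exact ⟨a + b, by rw [add_smul, ha, hb, map_add, smul_add]⟩

theorem radical_different_eq (h : Algebra.IsPushout A A' B B') :
    (Ideal.map (algebraMap B B') (QFDual.different B (Disc.Omega.trace A B))).radical =
      (QFDual.different B' (Disc.Omega.trace A' B')).radical := by
  obtain ⟨G, hG, hGt, hGτ⟩ := exists_G h
  haveI := finite_omega A B
  refine le_antisymm (Ideal.radical_mono (map_different_le h)) ?_
  rw [Ideal.radical_le_radical_iff]
  intro a ha
  rw [Ideal.radical_eq_sInf, Submodule.mem_sInf]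
  rintro (q : Ideal B') ⟨hDq, hq⟩
  let q0 : PrimeSpectrum B := ⟨Ideal.comap (algebraMap B B') q, hq.comap _⟩
  let N : Submodule B (Disc.Omega A B) := B ∙ Disc.Omega.trace A B
  have hsupp : q0 ∈ Module.support B (Disc.Omega A B ⧸ N) := by
    refine Module.mem_support_iff_of_finite.2 fun r hr => ?_
    refine (Ideal.map_le_iff_le_comap.1 hDq) ?_
    rw [QFDual.mem_different_iff]
    intro m
    refine Submodule.mem_span_singleton.1 ?_
    rw [← Submodule.Quotient.mk_eq_zero, Submodule.Quotient.mk_smul]
    exact Module.mem_annihilator.1 hr _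
  haveI := (Module.mem_support_iff_nontrivial_residueField_tensorProduct q0).1 hsupp
  obtain ⟨w, hw⟩ := exists_ne (0 : q0.asIdeal.ResidueField ⊗[B] (Disc.Omega A B ⧸ N))
  obtain ⟨f, hf⟩ := not_forall.1 ((Module.forall_dual_apply_eq_zero_iff q0.asIdeal.ResidueField w).not.2 hw)
  let χ : Disc.Omega A B →ₗ[B] q0.asIdeal.ResidueField :=
    (f.restrictScalars B).comp ((TensorProduct.mk B _ _ 1).comp N.mkQ)
  have hχτ : χ (Disc.Omega.trace A B) = 0 := by
    simp [χ, N, (Submodule.Quotient.mk_eq_zero _).2 (Submodule.mem_span_singleton_self _)]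
  obtain ⟨m, hm⟩ : ∃ m, χ m ≠ 0 := by
    by_contra hcon
    push Not at hcon
    apply hf
    have : f = 0 := by
      refine TensorProduct.AlgebraTensorModule.ext fun c x => ?_
      obtain ⟨m, rfl⟩ := N.mkQ_surjective x
      rw [show c ⊗ₜ[B] N.mkQ m = c • ((1 : q0.asIdeal.ResidueField) ⊗ₜ[B] N.mkQ m) by
        rw [TensorProduct.smul_tmul', smul_eq_mul, mul_one], map_smul,
        show f ((1 : q0.asIdeal.ResidueField) ⊗ₜ[B] N.mkQ m) = 0 from hcon m]
      simp
    rw [this, LinearMap.zero_apply]
  let ι := Ideal.ResidueField.map q0.asIdeal q (algebraMap B B') rfl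
  let χ₁ : Disc.Omega A B →ₗ[B] q.ResidueField :=
    { toFun := fun x => ι (χ x)
      map_add' := fun x y => by simp
      map_smul' := fun r x => by
        rw [map_smul, RingHom.id_apply, Algebra.smul_def, map_mul, Ideal.ResidueField.map_algebraMap]
        rw [← IsScalarTower.algebraMap_apply, ← Algebra.smul_def] }
  let Χ : B' ⊗[B] Disc.Omega A B →ₗ[B'] q.ResidueField := χ₁.liftBaseChange B'
  obtain ⟨c, hc⟩ := (QFDual.mem_different_iff _ _ _).1 ha (G (1 ⊗ₜ m))
  rw [← hGτ, ← map_smul G, ← map_smul G] at hc
  have h1 := congrArg Χ (hG.1 hc)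
  rw [map_smul, map_smul, LinearMap.liftBaseChange_tmul, LinearMap.liftBaseChange_tmul, one_smul, one_smul,
    show χ₁ (Disc.Omega.trace A B) = 0 from (congrArg ι hχτ).trans (map_zero ι), smul_zero,
    Algebra.smul_def] at h1
  rcases mul_eq_zero.1 h1.symm with h2 | h2
  · exact Ideal.algebraMap_residueField_eq_zero.1 h2
  · exact absurd (ι.injective (h2.trans (map_zero ι).symm)) hm

theorem different_le_map_of_flat [IsNoetherianRing A] (h : Algebra.IsPushout A A' B B') [Module.Flat A A'] :
    QFDual.different B' (Disc.Omega.trace A' B') ≤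
      Ideal.map (algebraMap B B') (QFDual.different B (Disc.Omega.trace A B)) := by
  obtain ⟨G, hG, hGt, hGτ⟩ := exists_G h
  haveI := finite_omega A B
  haveI : Algebra.IsPushout A B A' B' := h.symm
  haveI : Module.Flat B B' :=
    Module.Flat.of_linearEquiv (Algebra.IsPushout.equiv A B A' B').symm.toLinearEquiv
  let τ := Disc.Omega.trace A B
  let N : Submodule B (Disc.Omega A B) := B ∙ τ
  obtain ⟨n, s, hs⟩ := Module.Finite.exists_fin (R := B) (M := Disc.Omega A B)
  let f : B →ₗ[B] (Fin n → Disc.Omega A B ⧸ N) :=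
    LinearMap.pi fun i => LinearMap.toSpanSingleton B _ (N.mkQ (s i))
  have hD : LinearMap.ker f = QFDual.different B τ := by
    ext r
    rw [LinearMap.mem_ker, QFDual.mem_different_iff]
    constructor
    · intro hr m
      refine Submodule.mem_span_singleton.1 ?_
      have hm : m ∈ Submodule.span B (Set.range s) := hs ▸ trivial
      induction hm using Submodule.span_induction with
      | mem v hv =>
        obtain ⟨i, rfl⟩ := hv
        have := congrFun hr i
        rwa [LinearMap.pi_apply, LinearMap.toSpanSingleton_apply, ← map_smul, Submodule.mkQ_apply,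
          Pi.zero_apply, Submodule.Quotient.mk_eq_zero] at this
      | zero => rw [smul_zero]; exact zero_mem _
      | add x y _ _ hx hy => rw [smul_add]; exact add_mem hx hy
      | smul c x _ hx => rw [smul_comm]; exact Submodule.smul_mem _ c hx
    · intro hr
      funext i
      rw [LinearMap.pi_apply, LinearMap.toSpanSingleton_apply, ← map_smul, Submodule.mkQ_apply,
        Pi.zero_apply, Submodule.Quotient.mk_eq_zero]
      exact Submodule.mem_span_singleton.2 (hr _)
  intro a ha
  rw [QFDual.mem_different_iff] at ha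
  have hzero : f.lTensor B' (a ⊗ₜ 1) = 0 := by
    refine (TensorProduct.piRight B B' B' fun _ : Fin n => Disc.Omega A B ⧸ N).injective ?_
    rw [map_zero, LinearMap.lTensor_tmul, TensorProduct.piRight_apply]
    funext i
    rw [TensorProduct.piRightHom_tmul]
    change a ⊗ₜ[B] ((1 : B) • N.mkQ (s i)) = 0
    rw [one_smul]
    obtain ⟨c, hc⟩ := ha (G (1 ⊗ₜ s i))
    rw [← hGτ, ← map_smul G, ← map_smul G] at hc
    have h1 := congrArg (N.mkQ.lTensor B') (hG.1 hc)
    simp only [TensorProduct.smul_tmul', smul_eq_mul, mul_one, LinearMap.lTensor_tmul] at h1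
    rw [Submodule.mkQ_apply N τ, (Submodule.Quotient.mk_eq_zero _).2 (Submodule.mem_span_singleton_self _),
      TensorProduct.tmul_zero] at h1
    exact h1.symm
  have hex := Module.Flat.lTensor_exact (M := B') (LinearMap.exact_subtype_ker_map f)
  obtain ⟨z, hz⟩ := (hex _).1 hzero
  have : ∀ z : B' ⊗[B] LinearMap.ker f, TensorProduct.rid B B' ((LinearMap.ker f).subtype.lTensor B' z) ∈
      Ideal.map (algebraMap B B') (QFDual.different B τ) := by
    intro z
    induction z using TensorProduct.induction_on with
    | zero => simp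
    | tmul c x =>
      rw [LinearMap.lTensor_tmul, TensorProduct.rid_tmul, Algebra.smul_def]
      exact Ideal.mul_mem_right _ _ (Ideal.mem_map_of_mem _ (hD.le x.2))
    | add x y hx hy => rw [map_add, map_add]; exact add_mem hx hy
  have := this z
  rwa [hz, TensorProduct.rid_tmul, one_smul] at this

theorem different_le_map_of_invertible (h : Algebra.IsPushout A A' B B') [Module.Invertible B (Disc.Omega A B)] :
    QFDual.different B' (Disc.Omega.trace A' B') ≤
      Ideal.map (algebraMap B B') (QFDual.different B (Disc.Omega.trace A B)) := by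
  obtain ⟨G, hG, hGt, hGτ⟩ := exists_G h
  let τ := Disc.Omega.trace A B
  let Ω := Disc.Omega A B
  obtain ⟨z, hz⟩ := (Module.Invertible.bijective (R := B) (M := Ω)).2 1
  intro a ha
  rw [QFDual.mem_different_iff] at ha
  suffices ∀ z : Module.Dual B Ω ⊗[B] Ω, algebraMap B B' (contractLeft B Ω z) * a ∈
      Ideal.map (algebraMap B B') (QFDual.different B τ) by
    have := this z
    rwa [hz, map_one, one_mul] at this
  intro z
  induction z using TensorProduct.induction_on with
  | zero => simp
  | tmul ψ x =>
    obtain ⟨c, hc⟩ := ha (G (1 ⊗ₜ x))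
    rw [← hGτ, ← map_smul G, ← map_smul G] at hc
    have h1 := congrArg (((Algebra.linearMap B B').comp ψ).liftBaseChange B') (hG.1 hc)
    simp only [map_smul, LinearMap.liftBaseChange_tmul, one_smul, one_mul, LinearMap.comp_apply,
      Algebra.linearMap_apply, smul_eq_mul] at h1
    rw [contractLeft_apply, mul_comm, ← h1]
    refine Ideal.mul_mem_left _ _ (Ideal.mem_map_of_mem _ ?_)
    rw [QFDual.mem_different_iff]
    intro y
    refine ⟨ψ y, ?_⟩
    have := congrArg (TensorProduct.lift ((LinearMap.lsmul B Ω).comp ψ))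
      (Module.Invertible.tmul_comm (R := B) (M := Ω) (m₁ := y) (m₂ := τ))
    simpa using this
  | add x y hx hy => rw [map_add, map_add, add_mul]; exact add_mem hx hy

end Groth.Agent.QFDualLib
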