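import Groth.Agent.QFDualLib.Fibres

noncomputable section

universe u

open TensorProduct

namespace Groth.Agent.QFDualLib

attribute [local instance] Algebra.TensorProduct.rightAlgebra

theorem invertible_omega_of_fibres {A B' B : Type u} [CommRing A] [CommRing B'] [CommRing B] [IsNoetherianRing A]
    [IsNoetherianRing B] [Algebra A B'] [Algebra B' B] [Algebra A B] [IsScalarTower A B' B] [Module.Flat A B]
    (hf : QFDual.IsQFFactor A B' B)
    (h : ∀ (p : Ideal A) [p.IsPrime] (B'₁ B₁ : Type u) [CommRing B'₁] [CommRing B₁] [Algebra B' B'₁]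
      [Algebra p.ResidueField B'₁] [Algebra A B'₁] [IsScalarTower A p.ResidueField B'₁] [IsScalarTower A B' B'₁]
      [Algebra B B₁] [Algebra p.ResidueField B₁] [Algebra A B₁] [IsScalarTower A p.ResidueField B₁]
      [IsScalarTower A B B₁] [Algebra B'₁ B₁] [Algebra B' B₁] [IsScalarTower B' B'₁ B₁] [IsScalarTower B' B B₁]
      [IsScalarTower p.ResidueField B'₁ B₁],
      Algebra.IsPushout A p.ResidueField B' B'₁ → Algebra.IsPushout A p.ResidueField B B₁ →
        Module.Invertible B₁ (QFDual.omega p.ResidueField B'₁ B₁)) :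
    Module.Invertible B (QFDual.omega A B' B) := by
  haveI := hf.finite
  haveI : Module.Flat B' B := RingHom.flat_algebraMap_iff.1 (NoetherOpen.flat_of_openImmersion hf.isOpenImmersion)
  have hJ := map_projIdeal_eq_top hf
  haveI := flat_omega hJ
  haveI := finite_omega_of_noetherian A B'
  refine invertible_of_fibres (A := A) fun p _ => ?_
  let B'₁ := p.ResidueField ⊗[A] B'
  let B₁ := p.ResidueField ⊗[A] B
  letI : Algebra B'₁ B₁ :=
    (Algebra.TensorProduct.map (AlgHom.id p.ResidueField p.ResidueField) (IsScalarTower.toAlgHom A B' B)).toRingHom.toAlgebra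
  letI : Algebra B' B₁ := ((algebraMap B B₁).comp (algebraMap B' B)).toAlgebra
  haveI : IsScalarTower B' B B₁ := IsScalarTower.of_algebraMap_eq fun _ => rfl
  haveI : IsScalarTower B' B'₁ B₁ := IsScalarTower.of_algebraMap_eq fun b => by
    change (1 : p.ResidueField) ⊗ₜ[A] algebraMap B' B b =
      Algebra.TensorProduct.map (AlgHom.id p.ResidueField p.ResidueField) (IsScalarTower.toAlgHom A B' B) (1 ⊗ₜ b)
    simp
  haveI : IsScalarTower p.ResidueField B'₁ B₁ := IsScalarTower.of_algebraMap_eq fun a =>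
    ((Algebra.TensorProduct.map (AlgHom.id p.ResidueField p.ResidueField) (IsScalarTower.toAlgHom A B' B)).commutes a).symm
  haveI hp' : Algebra.IsPushout A p.ResidueField B' B'₁ := inferInstance
  haveI hp : Algebra.IsPushout A p.ResidueField B B₁ := inferInstance
  haveI := h p B'₁ B₁ hp' hp
  let e := LinearEquiv.ofBijective _ (bijective_omegaBC_of_projIdeal hJ (B₁ := B₁) hp' hp)
  haveI : Module.Invertible B₁ (QFDual.omega A B' B₁) := Module.Invertible.congr e.symm
  exact Module.Invertible.congr
    (TensorProduct.AlgebraTensorModule.cancelBaseChange B' B B₁ B₁ (Disc.Omega A B')).symm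

theorem invertible_omega_iff_fibres_aux {A B' B : Type u} [CommRing A] [CommRing B'] [CommRing B]
    [IsNoetherianRing A] [IsNoetherianRing B] [Algebra A B'] [Algebra B' B] [Algebra A B] [IsScalarTower A B' B]
    [Module.Flat A B] (hf : QFDual.IsQFFactor A B' B) [Module.Invertible B (QFDual.omega A B' B)]
    {A₁ B'₁ B₁ : Type u} [CommRing A₁] [CommRing B'₁] [CommRing B₁] [Algebra A A₁] [Algebra B' B'₁] [Algebra A₁ B'₁]
    [Algebra A B'₁] [IsScalarTower A A₁ B'₁] [IsScalarTower A B' B'₁] (h : Algebra.IsPushout A A₁ B' B'₁)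
    [Algebra B B₁] [Algebra A₁ B₁] [Algebra A B₁] [IsScalarTower A A₁ B₁] [IsScalarTower A B B₁]
    (hB : Algebra.IsPushout A A₁ B B₁) [Algebra B'₁ B₁] [Algebra B' B₁] [IsScalarTower B' B'₁ B₁]
    [IsScalarTower B' B B₁] [IsScalarTower A₁ B'₁ B₁] : Module.Invertible B₁ (QFDual.omega A₁ B'₁ B₁) := by
  haveI : Module.Flat B' B := RingHom.flat_algebraMap_iff.1 (NoetherOpen.flat_of_openImmersion hf.isOpenImmersion)
  haveI : Module.Invertible B₁ (QFDual.omega A B' B₁) :=
    Module.Invertible.congr (TensorProduct.AlgebraTensorModule.cancelBaseChange B' B B₁ B₁ (Disc.Omega A B'))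
  exact Module.Invertible.congr
    (LinearEquiv.ofBijective _ (bijective_omegaBC_of_projIdeal (map_projIdeal_eq_top hf) (B₁ := B₁) h hB))

end Groth.Agent.QFDualLib
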