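import Groth.Agent.QFDualLib.FlatBC
import Groth.Agent.CAlgFlat.Square
import Mathlib.RingTheory.PicardGroup
import Mathlib.RingTheory.Flat.Equalizer
import Mathlib.RingTheory.LocalRing.Module
import Mathlib.RingTheory.Support

noncomputable section

universe u

open TensorProduct

namespace Groth.Agent.QFDualLib

/-- A module which locally is generated by one element with zero annihilator is invertible. -/
theorem invertible_of_local {R M : Type u} [CommRing R] [AddCommGroup M] [Module R M]
    (h : ∀ q : Ideal R, q.IsMaximal → ∃ (m : M) (s : R), s ∉ q ∧ (∀ r : R, r • m = 0 → s * r = 0) ∧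
      ∀ x : M, ∃ r : R, s • x = r • m) : Module.Invertible R M := by
  classical
  have hsymm : ∀ (ψ : Module.Dual R M) (x y : M), ψ x • y = ψ y • x := by
    intro ψ x y
    by_contra hne
    let I := (Submodule.span R {ψ x • y - ψ y • x}).annihilator
    have hI : I ≠ ⊤ := fun htop => hne (sub_eq_zero.1 (by
      have := Submodule.mem_annihilator_span_singleton .. |>.1 (htop ▸ trivial : (1 : R) ∈ I)
      simpa using this))
    obtain ⟨q, hq, hle⟩ := Ideal.exists_le_maximal I hI
    obtain ⟨m, s, hs, -, hgen⟩ := h q hq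
    obtain ⟨r, hr⟩ := hgen x
    obtain ⟨r', hr'⟩ := hgen y
    refine (hq.isPrime.mul_mem_iff_mem_or_mem.not.2 (by simp [hs])) (hle (?_ : s * s ∈ I))
    rw [Submodule.mem_annihilator_span_singleton]
    have key : ∀ a b : M, (s * s) • (ψ a • b) = ψ (s • a) • (s • b) := fun a b => by
      rw [map_smul, smul_eq_mul, smul_smul, smul_smul]; congr 1; ring
    rw [smul_sub, key, key, hr, hr', map_smul, map_smul, smul_eq_mul, smul_eq_mul, smul_smul, smul_smul, sub_eq_zero]
    congr 1
    ring
  let I : Ideal R := LinearMap.range (contractLeft R M)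
  have hI : I = ⊤ := by
    by_contra hne
    obtain ⟨q, hq, hle⟩ := Ideal.exists_le_maximal I hne
    obtain ⟨m, s, hs, hinj, hgen⟩ := h q hq
    choose r hr using hgen
    let ψ : M →ₗ[R] R :=
      { toFun := fun x => s * r x
        map_add' := fun x y => by
          rw [← mul_add, ← sub_eq_zero, ← mul_sub]
          exact hinj _ (by rw [sub_smul, add_smul, ← hr, ← hr, ← hr, smul_add, sub_self])
        map_smul' := fun c x => by
          rw [RingHom.id_apply, smul_eq_mul, mul_left_comm, ← sub_eq_zero, ← mul_sub]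
          exact hinj _ (by rw [sub_smul, mul_smul, ← hr, ← hr, smul_comm, sub_self]) }
    have hψm : ψ m = s * s := by
      change s * r m = _
      rw [← sub_eq_zero, ← mul_sub]
      exact hinj _ (by rw [sub_smul, ← hr, sub_self])
    exact (hq.isPrime.mul_mem_iff_mem_or_mem.not.2 (by simp [hs]))
      (hψm ▸ hle ⟨ψ ⊗ₜ m, contractLeft_apply ψ m⟩)
  obtain ⟨u, hu⟩ : (1 : R) ∈ I := hI ▸ trivial
  refine ⟨⟨?_, fun c => ⟨c • u, by rw [map_smul, hu, smul_eq_mul, mul_one]⟩⟩⟩
  obtain ⟨S, hS⟩ := TensorProduct.exists_finset u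
  have hone : ∑ p ∈ S, p.1 p.2 = (1 : R) := by rw [← hu, hS, map_sum]; simp [contractLeft_apply]
  rw [injective_iff_map_eq_zero]
  intro t ht
  have key : ∀ t : Module.Dual R M ⊗[R] M, ∀ p : Module.Dual R M × M,
      p.1 p.2 • t = contractLeft R M t • (p.1 ⊗ₜ[R] p.2) := by
    intro t p
    induction t using TensorProduct.induction_on with
    | zero => simp
    | tmul ψ x =>
      rw [contractLeft_apply, ← TensorProduct.tmul_smul, hsymm p.1 p.2 x, TensorProduct.tmul_smul,
        TensorProduct.smul_tmul', TensorProduct.smul_tmul',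
        show p.1 x • ψ = ψ x • p.1 from LinearMap.ext fun y => by
          change p.1 x * ψ y = ψ x * p.1 y
          rw [← smul_eq_mul, ← map_smul, hsymm p.1 x y, map_smul, smul_eq_mul, mul_comm]]
    | add a b ha hb => rw [smul_add, ha, hb, map_add, add_smul]
  rw [← one_smul R t, ← hone, Finset.sum_smul]
  exact Finset.sum_eq_zero fun p _ => by rw [key, ht, zero_smul]

variable {A B : Type u} [CommRing A] [CommRing B] [IsNoetherianRing A] [IsNoetherianRing B] [Algebra A B]
  {N : Type u} [AddCommGroup N] [Module B N] [Module A N] [IsScalarTower A B N] [Module.Finite B N] [Module.Flat A N]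

attribute [local instance] Algebra.TensorProduct.rightAlgebra

/-- Invertibility of a flat module is fibrewise. -/
theorem invertible_of_fibres
    (h : ∀ (p : Ideal A) [p.IsPrime],
      Module.Invertible (p.ResidueField ⊗[A] B) ((p.ResidueField ⊗[A] B) ⊗[B] N)) :
    Module.Invertible B N := by
  classical
  refine invertible_of_local fun q hq => ?_
  let p := q.comap (algebraMap A B)
  let κ := q.ResidueField
  let C := p.ResidueField ⊗[A] B
  haveI := h p
  haveI : q.LiesOver p := ⟨rfl⟩
  let ι := Ideal.ResidueField.mapₐ p q (Algebra.ofId A B) rfl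
  let l : C →ₐ[A] κ := Algebra.TensorProduct.lift ι (IsScalarTower.toAlgHom A B κ) fun _ _ => Commute.all _ _
  letI : Algebra C κ := l.toRingHom.toAlgebra
  haveI : IsScalarTower B C κ := IsScalarTower.of_algebraMap_eq fun b => by
    change _ = l (1 ⊗ₜ b)
    exact ((Algebra.TensorProduct.lift_tmul ι (IsScalarTower.toAlgHom A B κ) (fun _ _ => Commute.all _ _) 1 b).trans
      (by rw [map_one, one_mul]; rfl)).symm
  haveI : Module.Invertible κ (κ ⊗[B] N) :=
    Module.Invertible.congr (TensorProduct.AlgebraTensorModule.cancelBaseChange B C κ κ N)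
  obtain ⟨e⟩ := (Module.Invertible.free_iff_linearEquiv (R := κ) (M := κ ⊗[B] N)).1 inferInstance
  obtain ⟨m, hm⟩ : ∃ m : N, (1 : κ) ⊗ₜ[B] m ≠ 0 := by
    by_contra hcon
    push Not at hcon
    have h0 : ∀ z : κ ⊗[B] N, z = 0 := by
      intro z
      induction z using TensorProduct.induction_on with
      | zero => rfl
      | tmul c n => rw [show c ⊗ₜ[B] n = c • ((1 : κ) ⊗ₜ[B] n) by rw [TensorProduct.smul_tmul', smul_eq_mul, mul_one], hcon, smul_zero]
      | add a b ha hb => rw [ha, hb, add_zero]
    have := congrArg e (h0 (e.symm 1))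
    rw [e.apply_symm_apply, map_zero] at this
    exact one_ne_zero this
  let μ₀ : B →ₗ[B] N := LinearMap.toSpanSingleton B N m
  let Q := N ⧸ LinearMap.range μ₀
  obtain ⟨s, hsq, hsQ⟩ : ∃ s ∉ q, ∀ x : Q, s • x = 0 := by
    have hns : (⟨q, hq.isPrime⟩ : PrimeSpectrum B) ∉ Module.support B Q := by
      rw [Module.mem_support_iff_nontrivial_residueField_tensorProduct, not_nontrivial_iff_subsingleton]
      refine subsingleton_of_forall_eq 0 fun z => ?_
      obtain ⟨w, rfl⟩ := LinearMap.lTensor_surjective κ (LinearMap.range μ₀).mkQ_surjective z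
      have he : w = (e w / e ((1 : κ) ⊗ₜ[B] m)) • ((1 : κ) ⊗ₜ[B] m) := by
        refine e.injective ?_
        rw [map_smul, smul_eq_mul, div_mul_cancel₀]
        exact fun h0 => hm (e.map_eq_zero_iff.1 h0)
      rw [he, TensorProduct.smul_tmul', smul_eq_mul, mul_one, LinearMap.lTensor_tmul, Submodule.mkQ_apply,
        (Submodule.Quotient.mk_eq_zero _).2 (show m ∈ LinearMap.range μ₀ from ⟨1, one_smul _ _⟩),
        TensorProduct.tmul_zero]
    rw [Module.mem_support_iff_of_finite, SetLike.not_le_iff_exists] at hns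
    obtain ⟨s, hs, hsq⟩ := hns
    exact ⟨s, hsq, fun x => Module.mem_annihilator.1 hs x⟩
  have hgen : ∀ x : N, ∃ r : B, s • x = r • m := fun x => by
    obtain ⟨r, hr⟩ := (Submodule.Quotient.mk_eq_zero _).1 ((Submodule.Quotient.mk_smul _ s x).trans (hsQ _))
    exact ⟨r, hr.symm⟩
  let R := Localization.AtPrime q
  have hsR : IsUnit (algebraMap B R s) := IsLocalization.map_units R (⟨s, hsq⟩ : q.primeCompl)
  let μ : R →ₗ[R] R ⊗[B] N := LinearMap.toSpanSingleton R _ ((1 : R) ⊗ₜ m)
  have hμsurj : Function.Surjective μ := by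
    intro z
    induction z using TensorProduct.induction_on with
    | zero => exact ⟨0, map_zero _⟩
    | add a b ha hb =>
      obtain ⟨x, rfl⟩ := ha; obtain ⟨y, rfl⟩ := hb
      exact ⟨x + y, map_add _ _ _⟩
    | tmul c n =>
      obtain ⟨r, hr⟩ := hgen n
      refine ⟨c * ↑hsR.unit⁻¹ * algebraMap B R r, ?_⟩
      change (c * ↑hsR.unit⁻¹ * algebraMap B R r) • ((1 : R) ⊗ₜ[B] m) = _
      rw [TensorProduct.smul_tmul', smul_eq_mul, mul_one, mul_comm _ (algebraMap B R r), ← Algebra.smul_def,
        TensorProduct.smul_tmul, ← hr, ← TensorProduct.smul_tmul, Algebra.smul_def, mul_left_comm, hsR.mul_val_inv, mul_one]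
  haveI : Module.Flat A (R ⊗[B] N) := by
    haveI : Module.Flat B R := IsLocalization.flat R q.primeCompl
    exact CAlgFlat.flat_tensor A B R N
  let K := LinearMap.ker μ
  have hKinj : Function.Injective ((K.subtype.restrictScalars A).lTensor p.ResidueField) :=
    LinearMap.lTensor_injective_of_exact_of_flat (μ.restrictScalars A) hμsurj (K.subtype.restrictScalars A)
      K.injective_subtype (LinearMap.exact_subtype_ker_map μ) p.ResidueField
  let C' := p.ResidueField ⊗[A] R
  letI : Algebra C C' := (Algebra.TensorProduct.map (AlgHom.id A p.ResidueField) (IsScalarTower.toAlgHom A B R)).toRingHom.toAlgebra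
  letI : Algebra B C' := ((Algebra.TensorProduct.includeRight : R →ₐ[A] C').toRingHom.comp (algebraMap B R)).toAlgebra
  haveI : IsScalarTower B C C' := IsScalarTower.of_algebraMap_eq fun b => by
    change (1 : p.ResidueField) ⊗ₜ[A] algebraMap B R b =
      Algebra.TensorProduct.map (AlgHom.id A p.ResidueField) (IsScalarTower.toAlgHom A B R) (1 ⊗ₜ b)
    simp
  haveI : Module.Invertible C' (C' ⊗[B] N) :=
    Module.Invertible.congr (TensorProduct.AlgebraTensorModule.cancelBaseChange B C C' C' N)
  let μ' : C' →ₗ[C'] C' ⊗[B] N := LinearMap.toSpanSingleton C' _ ((1 : C') ⊗ₜ m)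
  have hu : IsUnit (algebraMap B C' s) := hsR.map (Algebra.TensorProduct.includeRight : R →ₐ[A] C').toRingHom
  have hμ'surj : Function.Surjective μ' := by
    intro z
    induction z using TensorProduct.induction_on with
    | zero => exact ⟨0, map_zero _⟩
    | add a b ha hb =>
      obtain ⟨x, rfl⟩ := ha; obtain ⟨y, rfl⟩ := hb
      exact ⟨x + y, map_add _ _ _⟩
    | tmul c n =>
      obtain ⟨r, hr⟩ := hgen n
      refine ⟨c * ↑hu.unit⁻¹ * algebraMap B C' r, ?_⟩
      change (c * ↑hu.unit⁻¹ * algebraMap B C' r) • ((1 : C') ⊗ₜ[B] m) = _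
      have key : ∀ (b : B) (x : C') (y : N), x ⊗ₜ[B] (b • y) = (algebraMap B C' b * x) ⊗ₜ[B] y := fun b x y => by
        rw [← Algebra.smul_def]
        exact (TensorProduct.smul_tmul b x y).symm
      rw [TensorProduct.smul_tmul', smul_eq_mul, mul_one, mul_comm _ (algebraMap B C' r), ← key, ← hr, key,
        mul_left_comm, hu.mul_val_inv, mul_one]
  have hμ'inj : Function.Injective μ' := (Module.Invertible.bijective_of_surjective hμ'surj).1
  let iR : R →ₗ[B] C' :=
    { toFun := fun r => (1 : p.ResidueField) ⊗ₜ[A] r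
      map_add' := fun a b => TensorProduct.tmul_add _ _ _
      map_smul' := fun b r => by
        rw [RingHom.id_apply, Algebra.smul_def, Algebra.smul_def]
        change _ = ((1 : p.ResidueField) ⊗ₜ[A] algebraMap B R b) * ((1 : p.ResidueField) ⊗ₜ[A] r)
        rw [Algebra.TensorProduct.tmul_mul_tmul, mul_one] }
  have hzero : ∀ k : K, (1 : p.ResidueField) ⊗ₜ[A] (k : R) = 0 := by
    intro k
    refine hμ'inj ?_
    have hk : ((k : R) * 1) ⊗ₜ[B] m = 0 := by
      have := k.2
      rw [LinearMap.mem_ker] at this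
      change (k : R) • ((1 : R) ⊗ₜ[B] m) = 0 at this
      rwa [TensorProduct.smul_tmul', smul_eq_mul] at this
    rw [map_zero]
    change ((1 : p.ResidueField) ⊗ₜ[A] (k : R)) • ((1 : C') ⊗ₜ[B] m) = 0
    rw [TensorProduct.smul_tmul', smul_eq_mul, mul_one]
    have := congrArg (iR.rTensor N) hk
    rwa [LinearMap.rTensor_tmul, map_zero, mul_one] at this
  have hKsub : Subsingleton (p.ResidueField ⊗[A] K) := by
    refine subsingleton_of_forall_eq 0 fun z => hKinj ?_
    rw [map_zero]
    induction z using TensorProduct.induction_on with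
    | zero => exact map_zero _
    | tmul c k =>
      rw [LinearMap.lTensor_tmul, show c ⊗ₜ[A] ((K.subtype.restrictScalars A) k) =
        c • ((1 : p.ResidueField) ⊗ₜ[A] (k : R)) by rw [TensorProduct.smul_tmul', smul_eq_mul, mul_one]; rfl,
        hzero, smul_zero]
    | add a b ha hb => rw [map_add, ha, hb, add_zero]
  haveI : IsNoetherianRing R := IsLocalization.isNoetherianRing q.primeCompl R inferInstance
  haveI : Module.Finite R K := Module.Finite.of_fg (IsNoetherian.noetherian K)
  have hK : Subsingleton K := by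
    rw [← IsLocalRing.subsingleton_tensorProduct (R := R)]
    refine subsingleton_of_forall_eq 0 fun z => ?_
    induction z using TensorProduct.induction_on with
    | zero => rfl
    | tmul c k =>
      obtain ⟨c, rfl⟩ := IsLocalRing.residue_surjective c
      let ιR : p.ResidueField →ₐ[A] IsLocalRing.ResidueField R := ι
      let φ : p.ResidueField →ₗ[A] K →ₗ[A] IsLocalRing.ResidueField R ⊗[R] K :=
        LinearMap.mk₂ A (fun a k => ιR a ⊗ₜ[R] k) (fun a b k => by rw [map_add, TensorProduct.add_tmul])
          (fun r a k => by rw [map_smul, TensorProduct.smul_tmul']) (fun a k k' => TensorProduct.tmul_add _ _ _)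
          (fun r a k => TensorProduct.tmul_smul _ _ _)
      have h0 := congrArg (TensorProduct.lift φ) (hKsub.elim ((1 : p.ResidueField) ⊗ₜ[A] (c • k)) 0)
      simp only [TensorProduct.lift.tmul, φ, LinearMap.mk₂_apply, map_one, map_zero] at h0
      rwa [← TensorProduct.smul_tmul, Algebra.smul_def, mul_one] at h0
    | add a b ha hb => rw [ha, hb, add_zero]
  obtain ⟨s', hs'q, hs'⟩ : ∃ s' ∉ q, ∀ r : B, r • m = 0 → s' * r = 0 := by
    have hns : (⟨q, hq.isPrime⟩ : PrimeSpectrum B) ∉ Module.support B (LinearMap.ker μ₀) := by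
      rw [Module.notMem_support_iff']
      intro r
      have hr : (algebraMap B R r.1) ∈ K := by
        rw [LinearMap.mem_ker]
        change algebraMap B R r.1 • ((1 : R) ⊗ₜ[B] m) = 0
        rw [algebraMap_smul, ← TensorProduct.tmul_smul, show (r.1 : B) • m = 0 from r.2, TensorProduct.tmul_zero]
      obtain ⟨t, ht⟩ := (IsLocalization.map_eq_zero_iff q.primeCompl R r.1).1
        (congrArg Subtype.val (hK.elim ⟨_, hr⟩ 0))
      exact ⟨t, t.2, Subtype.ext ht⟩
    rw [Module.mem_support_iff_of_finite, SetLike.not_le_iff_exists] at hns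
    obtain ⟨s', hs', hs'q⟩ := hns
    exact ⟨s', hs'q, fun r hr => congrArg Subtype.val (Module.mem_annihilator.1 hs' ⟨r, hr⟩)⟩
  refine ⟨m, s * s', hq.isPrime.mul_notMem hsq hs'q, fun r hr => by rw [mul_assoc, hs' r hr, mul_zero], fun x => ?_⟩
  obtain ⟨r, hr⟩ := hgen x
  exact ⟨s' * r, by rw [mul_comm s, mul_smul, hr, mul_smul]⟩

end Groth.Agent.QFDualLib
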