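import Groth.Agent.QFDualLib.ProjLocus

noncomputable section

universe u

open TensorProduct

namespace Groth.Agent.QFDualLib

theorem eq_zero_of_killed {B' B N : Type u} [CommRing B'] [CommRing B] [Algebra B' B] [AddCommGroup N] [Module B N]
    {J : Ideal B'} (hJ : J.map (algebraMap B' B) = ⊤) {z : N} (h : ∀ s ∈ J, algebraMap B' B s • z = 0) : z = 0 := by
  have : (1 : B) ∈ LinearMap.ker (LinearMap.toSpanSingleton B N z) :=
    (Ideal.map_le_iff_le_comap.2 fun s hs => by
      simpa [Ideal.mem_comap] using h s hs : J.map (algebraMap B' B) ≤ (LinearMap.ker (LinearMap.toSpanSingleton B N z) : Ideal B))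
      (hJ ▸ trivial)
  simpa using this

/-- A map with kernel and cokernel killed by `J` becomes bijective over a flat algebra where `J` generates `⊤`. -/
theorem bijective_lTensor_of_killed {R S M N : Type u} [CommRing R] [CommRing S] [Algebra R S] [Module.Flat R S]
    [AddCommGroup M] [Module R M] [AddCommGroup N] [Module R N] {J : Ideal R} (hJ : J.map (algebraMap R S) = ⊤)
    (G : M →ₗ[R] N) (hker : ∀ s ∈ J, ∀ x, G x = 0 → s • x = 0) (hcoker : ∀ s ∈ J, ∀ y, ∃ x, G x = s • y) :
    Function.Bijective (G.lTensor S) := by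
  constructor
  · rw [injective_iff_map_eq_zero]
    intro z hz
    obtain ⟨w, rfl⟩ := (Module.Flat.lTensor_exact (M := S) (LinearMap.exact_subtype_ker_map G) z).1 hz
    refine eq_zero_of_killed hJ fun s hs => ?_
    clear hz
    induction w using TensorProduct.induction_on with
    | zero => simp
    | tmul b x =>
      rw [LinearMap.lTensor_tmul, TensorProduct.smul_tmul', smul_eq_mul, ← Algebra.smul_def, TensorProduct.smul_tmul,
        ← map_smul, show s • x = 0 from Subtype.ext (hker s hs x x.2), map_zero, TensorProduct.tmul_zero]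
    | add a b ha hb => rw [map_add, smul_add, ha, hb, add_zero]
  · intro y
    induction y using TensorProduct.induction_on with
    | zero => exact ⟨0, map_zero _⟩
    | add a b ha hb =>
      obtain ⟨x, rfl⟩ := ha
      obtain ⟨x', rfl⟩ := hb
      exact ⟨x + x', map_add _ _ _⟩
    | tmul b y =>
      suffices ∀ c ∈ J.map (algebraMap R S), (c * b) ⊗ₜ[R] y ∈ LinearMap.range (G.lTensor S) by
        simpa using this 1 (hJ ▸ trivial)
      intro c hc
      induction hc using Submodule.span_induction generalizing b with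
      | mem c hc =>
        obtain ⟨s, hs, rfl⟩ := hc
        obtain ⟨x, hx⟩ := hcoker s hs y
        exact ⟨b ⊗ₜ x, by rw [LinearMap.lTensor_tmul, hx, ← TensorProduct.smul_tmul, Algebra.smul_def]⟩
      | zero => simp
      | add a b' _ _ ha hb => rw [add_mul, TensorProduct.add_tmul]; exact add_mem (ha b) (hb b)
      | smul t c _ hc => rw [smul_eq_mul, mul_right_comm, mul_comm]; exact hc (t * b)

/-- Flatness of the relative dualizing module. -/
theorem flat_omega {A B' B : Type u} [CommRing A] [CommRing B'] [CommRing B] [Algebra A B'] [Algebra B' B]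
    [Algebra A B] [IsScalarTower A B' B] [Module.Flat B' B] (hJ : (projIdeal A B').map (algebraMap B' B) = ⊤) :
    Module.Flat A (B ⊗[B'] Disc.Omega A B') := by
  letI : Module A (Disc.Omega A B') := Module.compHom _ (algebraMap A B')
  haveI : IsScalarTower A B' (Disc.Omega A B') := IsScalarTower.of_algebraMap_smul fun _ _ => rfl
  haveI : SMulCommClass B' A (Disc.Omega A B') := ⟨fun b a φ => smul_comm b (algebraMap A B' a) φ⟩
  have hsm : ∀ (a : A) (φ : Disc.Omega A B') (y : B'), (a • φ).toLinearMap y = a * φ.toLinearMap y := fun a φ y => by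
    change φ.toLinearMap (algebraMap A B' a * y) = _
    rw [← Algebra.smul_def, map_smul, smul_eq_mul]
  rw [Module.Flat.iff_rTensor_preserves_injective_linearMap]
  intro M₁ M₂ _ _ _ _ g hg
  let gΩ : Disc.Omega A B' ⊗[A] M₁ →ₗ[B'] Disc.Omega A B' ⊗[A] M₂ :=
    TensorProduct.AlgebraTensorModule.map LinearMap.id g
  let e₁ := TensorProduct.AlgebraTensorModule.assoc A B' B' B (Disc.Omega A B') M₁
  let e₂ := TensorProduct.AlgebraTensorModule.assoc A B' B' B (Disc.Omega A B') M₂
  have hcomm : ∀ z, e₂ (g.lTensor (B ⊗[B'] Disc.Omega A B') z) = gΩ.lTensor B (e₁ z) := by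
    intro z
    induction z using TensorProduct.induction_on with
    | zero => simp
    | tmul x m =>
      induction x using TensorProduct.induction_on with
      | zero => simp
      | tmul b φ => simp [e₁, e₂, gΩ]
      | add x y hx hy => simp only [TensorProduct.add_tmul, map_add, hx, hy]
    | add x y hx hy => simp only [map_add, hx, hy]
  have hinj : Function.Injective (gΩ.lTensor B) := by
    rw [injective_iff_map_eq_zero]
    intro z hz
    obtain ⟨w, rfl⟩ := (Module.Flat.lTensor_exact (M := B) (LinearMap.exact_subtype_ker_map gΩ) z).1 hz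
    refine eq_zero_of_killed hJ fun s hs => ?_
    obtain ⟨n, f, x, hfx⟩ := hs
    have hkill : ∀ z, gΩ z = 0 → s • z = 0 := by
      intro z hz
      let Ψ := fun (M : Type u) [AddCommGroup M] [Module A M] (i : Fin n) =>
        TensorProduct.lift (LinearMap.mk₂ A (fun (φ : Disc.Omega A B') (m : M) => φ.toLinearMap (x i) • m)
          (fun φ ψ m => by simp [add_smul]) (fun a φ m => by rw [hsm, mul_smul])
          (fun φ m m' => smul_add _ _ _) (fun a φ m => smul_comm _ _ _))
      have hnat : ∀ i, ∀ z, g (Ψ M₁ i z) = Ψ M₂ i (gΩ z) := by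
        intro i z
        induction z using TensorProduct.induction_on with
        | zero => simp
        | tmul φ m => simp [Ψ, gΩ]
        | add a b ha hb => simp only [map_add, ha, hb]
      have hback : ∀ z : Disc.Omega A B' ⊗[A] M₁, s • z = ∑ i, Disc.Omega.mk (f i) ⊗ₜ[A] Ψ M₁ i z := by
        intro z
        induction z using TensorProduct.induction_on with
        | zero => simp
        | tmul φ m =>
          simp only [Ψ, TensorProduct.lift.tmul, LinearMap.mk₂_apply, ← TensorProduct.smul_tmul,
            ← TensorProduct.sum_tmul, TensorProduct.smul_tmul']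
          congr 1
          refine Disc.Omega.ext (LinearMap.ext fun y => ?_)
          let ev : Disc.Omega A B' →+ A :=
            { toFun := fun ψ => ψ.toLinearMap y, map_zero' := rfl, map_add' := fun _ _ => rfl }
          change φ.toLinearMap (s * y) = ev (∑ i, φ.toLinearMap (x i) • Disc.Omega.mk (f i))
          rw [map_sum, hfx, map_sum]
          refine Finset.sum_congr rfl fun i _ => ?_
          change _ = (φ.toLinearMap (x i) • Disc.Omega.mk (f i)).toLinearMap y
          rw [hsm, map_smul, smul_eq_mul, mul_comm]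
        | add a b ha hb =>
          rw [smul_add, ha, hb, ← Finset.sum_add_distrib]
          simp only [map_add, TensorProduct.tmul_add]
      rw [hback]
      refine Finset.sum_eq_zero fun i _ => ?_
      rw [show Ψ M₁ i z = 0 from hg (by rw [hnat, hz, map_zero, map_zero]), TensorProduct.tmul_zero]
    clear hz
    induction w using TensorProduct.induction_on with
    | zero => simp
    | tmul b z =>
      rw [LinearMap.lTensor_tmul, TensorProduct.smul_tmul', smul_eq_mul, ← Algebra.smul_def, TensorProduct.smul_tmul,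
        ← map_smul, show s • z = 0 from Subtype.ext (hkill z z.2), map_zero, TensorProduct.tmul_zero]
    | add a b ha hb => rw [map_add, smul_add, ha, hb, add_zero]
  have hl : Function.Injective (g.lTensor (B ⊗[B'] Disc.Omega A B')) := fun a b h =>
    e₁.injective (hinj (by rw [← hcomm, ← hcomm, h]))
  intro a b h
  apply (TensorProduct.comm A M₁ _).injective
  apply hl
  have hc : ∀ z, g.lTensor (B ⊗[B'] Disc.Omega A B') (TensorProduct.comm A M₁ _ z) =
      TensorProduct.comm A M₂ _ (g.rTensor _ z) := by
    intro z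
    induction z using TensorProduct.induction_on with
    | zero => simp
    | tmul m x => simp
    | add x y hx hy => simp only [map_add, hx, hy]
  rw [hc, hc, h]

/-- Base change of the relative dualizing module of a flat quasi-finite map. -/
theorem bijective_omegaBC_of_projIdeal {A B' B A₁ B'₁ B₁ : Type u} [CommRing A] [CommRing B'] [CommRing B]
    [CommRing A₁] [CommRing B'₁] [CommRing B₁] [Algebra A B'] [Algebra B' B] [Algebra A B] [IsScalarTower A B' B]
    [Module.Flat B' B] (hJ : (projIdeal A B').map (algebraMap B' B) = ⊤)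
    [Algebra A A₁] [Algebra B' B'₁] [Algebra A₁ B'₁] [Algebra A B'₁] [IsScalarTower A A₁ B'₁]
    [IsScalarTower A B' B'₁] (h : Algebra.IsPushout A A₁ B' B'₁) [Algebra B B₁] [Algebra A₁ B₁] [Algebra A B₁]
    [IsScalarTower A A₁ B₁] [IsScalarTower A B B₁] (hB : Algebra.IsPushout A A₁ B B₁) [Algebra B'₁ B₁]
    [Algebra B' B₁] [IsScalarTower B' B'₁ B₁] [IsScalarTower B' B B₁] [IsScalarTower A₁ B'₁ B₁] :
    Function.Bijective (QFDual.omegaBC (B₁ := B₁) h) := by
  haveI : IsScalarTower A B'₁ B₁ := IsScalarTower.of_algebraMap_eq fun a => by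
    rw [IsScalarTower.algebraMap_apply A A₁ B₁, IsScalarTower.algebraMap_apply A₁ B'₁ B₁,
      ← IsScalarTower.algebraMap_apply A A₁ B'₁]
  haveI : IsScalarTower A B' B₁ := IsScalarTower.of_algebraMap_eq fun a => by
    rw [IsScalarTower.algebraMap_apply A B B₁, IsScalarTower.algebraMap_apply A B' B,
      ← IsScalarTower.algebraMap_apply B' B B₁]
  haveI : Algebra.IsPushout A B' A₁ B'₁ := h.symm
  haveI hpo : Algebra.IsPushout B' B B'₁ B₁ := (Algebra.IsPushout.comp_iff A B' A₁ B'₁).1 hB.symm
  haveI : Module.Flat B'₁ B₁ := by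
    haveI : Algebra.IsPushout B' B'₁ B B₁ := hpo.symm
    exact Module.Flat.of_linearEquiv (Algebra.IsPushout.equiv B' B'₁ B B₁).symm.toLinearEquiv
  let G : B'₁ ⊗[B'] Disc.Omega A B' →ₗ[B'₁] Disc.Omega A₁ B'₁ :=
    (TensorProduct.lid B'₁ (Disc.Omega A₁ B'₁)).toLinearMap ∘ₗ QFDual.omegaBC (B₁ := B'₁) h
  have hG : ∀ c φ, G (c ⊗ₜ[B'] φ) = c • QFDual.bcFin h φ := fun c φ => by simp [G]
  have hJ₁ : ((projIdeal A B').map (algebraMap B' B'₁)).map (algebraMap B'₁ B₁) = ⊤ := by
    rw [Ideal.map_map, ← IsScalarTower.algebraMap_eq, IsScalarTower.algebraMap_eq B' B B₁, ← Ideal.map_map, hJ,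
      Ideal.map_top]
  have key : ∀ s ∈ projIdeal A B',
      (∀ z, G z = 0 → algebraMap B' B'₁ s • z = 0) ∧ ∀ ψ, ∃ z, G z = algebraMap B' B'₁ s • ψ := by
    rintro s ⟨n, f, x, hfx⟩
    let H : Disc.Omega A₁ B'₁ →+ B'₁ ⊗[B'] Disc.Omega A B' :=
      AddMonoidHom.mk' (fun ψ => ∑ i, algebraMap A₁ B'₁ (ψ.toLinearMap (algebraMap B' B'₁ (x i))) ⊗ₜ[B'] Disc.Omega.mk (f i))
        fun ψ ψ' => by simp [TensorProduct.add_tmul, Finset.sum_add_distrib]
    have hH : ∀ ψ, H ψ = ∑ i, algebraMap A₁ B'₁ (ψ.toLinearMap (algebraMap B' B'₁ (x i))) ⊗ₜ[B'] Disc.Omega.mk (f i) :=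
      fun _ => rfl
    have hGH : ∀ ψ, G (H ψ) = algebraMap B' B'₁ s • ψ := by
      intro ψ
      refine Disc.Omega.ext (h.out.algHom_ext _ _ fun y => ?_)
      change (G (H ψ)).toLinearMap (algebraMap B' B'₁ y) =
        ψ.toLinearMap (algebraMap B' B'₁ s * algebraMap B' B'₁ y)
      let ev : Disc.Omega A₁ B'₁ →+ A₁ :=
        { toFun := fun ψ' => ψ'.toLinearMap (algebraMap B' B'₁ y), map_zero' := rfl, map_add' := fun _ _ => rfl }
      change ev (G (H ψ)) = _
      rw [hH, map_sum, map_sum, ← map_mul, hfx, map_sum, map_sum]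
      refine Finset.sum_congr rfl fun i _ => ?_
      rw [hG]
      change (QFDual.bcFin h ⟨f i⟩).toLinearMap (algebraMap A₁ B'₁ (ψ.toLinearMap (algebraMap B' B'₁ (x i))) *
        algebraMap B' B'₁ y) = _
      rw [← Algebra.smul_def, map_smul, QFDual.bcFin_apply_algebraMap, smul_eq_mul, Algebra.smul_def (f i y) (x i),
        map_mul (algebraMap B' B'₁), ← IsScalarTower.algebraMap_apply, IsScalarTower.algebraMap_apply A A₁ B'₁,
        ← Algebra.smul_def, map_smul, smul_eq_mul, mul_comm]
    have hHsmul : ∀ (a : A₁) ψ, H (algebraMap A₁ B'₁ a • ψ) = algebraMap A₁ B'₁ a • H ψ := by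
      intro a ψ
      rw [hH, hH, Finset.smul_sum]
      refine Finset.sum_congr rfl fun i _ => ?_
      rw [TensorProduct.smul_tmul', smul_eq_mul, Disc.Omega.smul_toLinearMap_apply, ← Algebra.smul_def,
        map_smul, smul_eq_mul, map_mul]
    have hHF : ∀ φ, H (QFDual.bcFin h φ) = (1 : B'₁) ⊗ₜ[B'] (s • φ) := by
      intro φ
      have hs : s • φ = ∑ i, algebraMap A B' (φ.toLinearMap (x i)) • Disc.Omega.mk (f i) := by
        refine Disc.Omega.ext (LinearMap.ext fun y => ?_)
        let ev : Disc.Omega A B' →+ A :=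
          { toFun := fun ψ => ψ.toLinearMap y, map_zero' := rfl, map_add' := fun _ _ => rfl }
        change φ.toLinearMap (s * y) = ev (∑ i, algebraMap A B' (φ.toLinearMap (x i)) • Disc.Omega.mk (f i))
        rw [map_sum, hfx, map_sum]
        refine Finset.sum_congr rfl fun i _ => ?_
        change _ = f i (algebraMap A B' (φ.toLinearMap (x i)) * y)
        rw [← Algebra.smul_def, map_smul, map_smul, smul_eq_mul, smul_eq_mul, mul_comm]
      rw [hH, hs, TensorProduct.tmul_sum]
      refine Finset.sum_congr rfl fun i _ => ?_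
      rw [QFDual.bcFin_apply_algebraMap, ← IsScalarTower.algebraMap_apply, IsScalarTower.algebraMap_apply A B' B'₁,
        ← TensorProduct.smul_tmul, Algebra.smul_def, mul_one]
    have hHG : ∀ z, H (G z) = algebraMap B' B'₁ s • z := by
      intro z
      induction z using TensorProduct.induction_on with
      | zero => simp
      | add a b ha hb => rw [map_add, map_add, ha, hb, smul_add]
      | tmul c φ =>
        induction c using h.out.inductionOn generalizing φ with
        | zero => simp
        | tmul b =>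
          change H (G (algebraMap B' B'₁ b ⊗ₜ[B'] φ)) = algebraMap B' B'₁ s • (algebraMap B' B'₁ b ⊗ₜ[B'] φ)
          rw [show algebraMap B' B'₁ b ⊗ₜ[B'] φ = (1 : B'₁) ⊗ₜ[B'] (b • φ) by
              rw [← TensorProduct.smul_tmul, Algebra.smul_def, mul_one], hG, one_smul, hHF,
            algebraMap_smul, TensorProduct.tmul_smul]
        | smul a c hc =>
          have h1 : (a • c) ⊗ₜ[B'] φ = algebraMap A₁ B'₁ a • (c ⊗ₜ[B'] φ) := by
            rw [TensorProduct.smul_tmul', smul_eq_mul, Algebra.smul_def]
          rw [h1, map_smul G, hHsmul, hc, smul_comm]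
        | add c d hc hd => rw [TensorProduct.add_tmul, map_add, map_add, hc, hd, smul_add]
    exact ⟨fun z hz => by rw [← hHG, hz, map_zero], fun ψ => ⟨H ψ, hGH ψ⟩⟩
  have hker : ∀ c ∈ (projIdeal A B').map (algebraMap B' B'₁), ∀ z, G z = 0 → c • z = 0 := by
    intro c hc z hz
    induction hc using Submodule.span_induction with
    | mem c hc => obtain ⟨s, hs, rfl⟩ := hc; exact (key s hs).1 z hz
    | zero => exact zero_smul _ _
    | add a b _ _ ha hb => rw [add_smul, ha, hb, add_zero]
    | smul t c _ hc => rw [smul_eq_mul, mul_smul, hc, smul_zero]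
  have hcoker : ∀ c ∈ (projIdeal A B').map (algebraMap B' B'₁), ∀ ψ, ∃ z, G z = c • ψ := by
    intro c hc ψ
    induction hc using Submodule.span_induction with
    | mem c hc => obtain ⟨s, hs, rfl⟩ := hc; exact (key s hs).2 ψ
    | zero => exact ⟨0, by rw [map_zero, zero_smul]⟩
    | add a b _ _ ha hb =>
      obtain ⟨p, hp⟩ := ha; obtain ⟨q, hq⟩ := hb
      exact ⟨p + q, by rw [map_add, hp, hq, add_smul]⟩
    | smul t c _ hc =>
      obtain ⟨p, hp⟩ := hc
      exact ⟨t • p, by rw [map_smul, hp, smul_eq_mul, mul_smul]⟩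
  have hbij := bijective_lTensor_of_killed (S := B₁) hJ₁ G hker hcoker
  let e := (TensorProduct.AlgebraTensorModule.cancelBaseChange B' B'₁ B'₁ B₁ (Disc.Omega A B')).symm.toEquiv.trans
    (Equiv.ofBijective _ hbij)
  have he : ∀ z, QFDual.omegaBC (B₁ := B₁) h z = e z := by
    intro z
    obtain ⟨w, rfl⟩ := (TensorProduct.AlgebraTensorModule.cancelBaseChange B' B'₁ B'₁ B₁ (Disc.Omega A B')).surjective z
    change _ = G.lTensor B₁
      ((TensorProduct.AlgebraTensorModule.cancelBaseChange B' B'₁ B'₁ B₁ (Disc.Omega A B')).symm _)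
    rw [LinearEquiv.symm_apply_apply]
    induction w using TensorProduct.induction_on with
    | zero => simp
    | tmul b v =>
      induction v using TensorProduct.induction_on with
      | zero => simp
      | tmul c φ =>
        rw [TensorProduct.AlgebraTensorModule.cancelBaseChange_tmul, QFDual.omegaBC_tmul, LinearMap.lTensor_tmul,
          hG, TensorProduct.smul_tmul]
      | add x y hx hy => rw [TensorProduct.tmul_add, map_add, map_add, map_add, hx, hy]
    | add x y hx hy => rw [map_add, map_add, map_add, hx, hy]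
  rw [show ⇑(QFDual.omegaBC (B₁ := B₁) h) = e from funext he]
  exact e.bijective

end Groth.Agent.QFDualLib
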