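import Groth.Prelude.Def_QFDual
import Mathlib.LinearAlgebra.Prod
import Mathlib.Algebra.Algebra.Prod

noncomputable section

universe u

open TensorProduct

namespace Groth.Agent.QFDualLib

variable (A B' B C' C : Type u) [CommRing A] [CommRing B'] [CommRing B] [CommRing C'] [CommRing C]
  [Algebra A B'] [Algebra B' B] [Algebra A B] [IsScalarTower A B' B] [Algebra A C'] [Algebra C' C]
  [Algebra A C] [IsScalarTower A C' C] [Algebra (B' × C') (B × C)] [IsScalarTower A (B' × C') (B × C)]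

theorem exists_omega_prod (halg : algebraMap (B' × C') (B × C) = (algebraMap B' B).prodMap (algebraMap C' C)) :
    ∃ e : QFDual.omega A (B' × C') (B × C) ≃ₗ[A] QFDual.omega A B' B × QFDual.omega A C' C,
      ∀ (b : B) (c : C) (φ : Disc.Omega A (B' × C')),
        e ((b, c) ⊗ₜ[B' × C'] φ) = (b ⊗ₜ[B'] Disc.Omega.mk (φ.toLinearMap ∘ₗ LinearMap.inl A B' C'),
          c ⊗ₜ[C'] Disc.Omega.mk (φ.toLinearMap ∘ₗ LinearMap.inr A B' C')) := by
  have hsm : ∀ (r : B' × C') (x : B × C), r • x = (r.1 • x.1, r.2 • x.2) := fun r x => by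
    rw [Algebra.smul_def, halg, Algebra.smul_def, Algebra.smul_def]
    rfl
  let f0 : B × C →+ Disc.Omega A (B' × C') →+ QFDual.omega A B' B × QFDual.omega A C' C :=
    AddMonoidHom.mk' (fun x => AddMonoidHom.mk'
      (fun φ => (x.1 ⊗ₜ[B'] Disc.Omega.mk (φ.toLinearMap ∘ₗ LinearMap.inl A B' C'),
        x.2 ⊗ₜ[C'] Disc.Omega.mk (φ.toLinearMap ∘ₗ LinearMap.inr A B' C')))
      fun φ ψ => by
        refine Prod.ext ?_ ?_ <;> (simp only [Prod.fst_add, Prod.snd_add]; rw [← TensorProduct.tmul_add]; rfl))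
      fun x y => AddMonoidHom.ext fun φ => Prod.ext (TensorProduct.add_tmul _ _ _) (TensorProduct.add_tmul _ _ _)
  let F : QFDual.omega A (B' × C') (B × C) →+ QFDual.omega A B' B × QFDual.omega A C' C :=
    TensorProduct.liftAddHom f0 fun r x φ => by
      refine Prod.ext ?_ ?_
      · change (r • x).1 ⊗ₜ[B'] _ = x.1 ⊗ₜ[B'] _
        rw [hsm, TensorProduct.smul_tmul]
        congr 1
        refine Disc.Omega.ext (LinearMap.ext fun y => ?_)
        change φ.toLinearMap (r.1 * y, 0) = φ.toLinearMap (r.1 * y, r.2 * 0)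
        rw [mul_zero]
      · change (r • x).2 ⊗ₜ[C'] _ = x.2 ⊗ₜ[C'] _
        rw [hsm, TensorProduct.smul_tmul]
        congr 1
        refine Disc.Omega.ext (LinearMap.ext fun y => ?_)
        change φ.toLinearMap (0, r.2 * y) = φ.toLinearMap (r.1 * 0, r.2 * y)
        rw [mul_zero]
  let g1 : B →+ Disc.Omega A B' →+ QFDual.omega A (B' × C') (B × C) :=
    AddMonoidHom.mk' (fun b => AddMonoidHom.mk'
      (fun ψ => ((b, 0) : B × C) ⊗ₜ[B' × C'] Disc.Omega.mk (ψ.toLinearMap ∘ₗ LinearMap.fst A B' C'))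
      fun φ ψ => by rw [← TensorProduct.tmul_add]; rfl)
      fun x y => AddMonoidHom.ext fun φ => by
        change ((x + y, 0) : B × C) ⊗ₜ[B' × C'] _ = ((x, 0) : B × C) ⊗ₜ _ + ((y, 0) : B × C) ⊗ₜ _
        rw [← TensorProduct.add_tmul, Prod.mk_add_mk, add_zero]
  let g2 : C →+ Disc.Omega A C' →+ QFDual.omega A (B' × C') (B × C) :=
    AddMonoidHom.mk' (fun c => AddMonoidHom.mk'
      (fun ψ => ((0, c) : B × C) ⊗ₜ[B' × C'] Disc.Omega.mk (ψ.toLinearMap ∘ₗ LinearMap.snd A B' C'))
      fun φ ψ => by rw [← TensorProduct.tmul_add]; rfl)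
      fun x y => AddMonoidHom.ext fun φ => by
        change ((0, x + y) : B × C) ⊗ₜ[B' × C'] _ = ((0, x) : B × C) ⊗ₜ _ + ((0, y) : B × C) ⊗ₜ _
        rw [← TensorProduct.add_tmul, Prod.mk_add_mk, add_zero]
  let G1 : QFDual.omega A B' B →+ QFDual.omega A (B' × C') (B × C) :=
    TensorProduct.liftAddHom g1 fun r b ψ => by
      change ((r • b, 0) : B × C) ⊗ₜ[B' × C'] _ = ((b, 0) : B × C) ⊗ₜ[B' × C'] _
      rw [show ((r • b, 0) : B × C) = ((r, 0) : B' × C') • ((b, 0) : B × C) by
        rw [hsm]; exact Prod.ext rfl (smul_zero _).symm, TensorProduct.smul_tmul]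
      rfl
  let G2 : QFDual.omega A C' C →+ QFDual.omega A (B' × C') (B × C) :=
    TensorProduct.liftAddHom g2 fun r c ψ => by
      change ((0, r • c) : B × C) ⊗ₜ[B' × C'] _ = ((0, c) : B × C) ⊗ₜ[B' × C'] _
      rw [show ((0, r • c) : B × C) = ((0, r) : B' × C') • ((0, c) : B × C) by
        rw [hsm]; exact Prod.ext (smul_zero _).symm rfl, TensorProduct.smul_tmul]
      rfl
  have hlin : ∀ (a : A) z, F (a • z) = a • F z := by
    intro a z
    induction z using TensorProduct.induction_on with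
    | zero => rw [smul_zero, map_zero, smul_zero]
    | tmul x φ =>
      rw [TensorProduct.smul_tmul']
      change ((a • x).1 ⊗ₜ[B'] _, (a • x).2 ⊗ₜ[C'] _) = a • (x.1 ⊗ₜ[B'] _, x.2 ⊗ₜ[C'] _)
      rw [Prod.smul_fst, Prod.smul_snd, ← TensorProduct.smul_tmul', ← TensorProduct.smul_tmul', Prod.smul_mk]
      rfl
    | add x y hx hy => rw [smul_add, map_add, map_add, smul_add, hx, hy]
  have hGF : ∀ z, G1 (F z).1 + G2 (F z).2 = z := by
    intro z
    induction z using TensorProduct.induction_on with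
    | zero => simp
    | tmul x φ =>
      change ((x.1, 0) : B × C) ⊗ₜ[B' × C'] _ + ((0, x.2) : B × C) ⊗ₜ[B' × C'] _ = _
      have e1 : Disc.Omega.mk ((φ.toLinearMap ∘ₗ LinearMap.inl A B' C') ∘ₗ LinearMap.fst A B' C') =
          ((1, 0) : B' × C') • φ := Disc.Omega.ext (LinearMap.ext fun y => by
        change φ.toLinearMap (y.1, 0) = φ.toLinearMap (1 * y.1, 0 * y.2)
        rw [one_mul, zero_mul])
      have e2 : Disc.Omega.mk ((φ.toLinearMap ∘ₗ LinearMap.inr A B' C') ∘ₗ LinearMap.snd A B' C') =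
          ((0, 1) : B' × C') • φ := Disc.Omega.ext (LinearMap.ext fun y => by
        change φ.toLinearMap (0, y.2) = φ.toLinearMap (0 * y.1, 1 * y.2)
        rw [one_mul, zero_mul])
      rw [e1, e2, ← TensorProduct.smul_tmul, ← TensorProduct.smul_tmul, hsm, hsm, one_smul, one_smul,
        zero_smul, zero_smul, ← TensorProduct.add_tmul, Prod.mk_add_mk, add_zero, zero_add]
    | add x y hx hy =>
      rw [map_add, Prod.fst_add, Prod.snd_add, map_add, map_add, add_add_add_comm, hx, hy]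
  have hFG1 : ∀ u, F (G1 u) = (u, 0) := by
    intro u
    induction u using TensorProduct.induction_on with
    | zero => rw [map_zero, map_zero]; rfl
    | tmul b ψ =>
      refine Prod.ext ?_ ?_
      · change b ⊗ₜ[B'] _ = b ⊗ₜ[B'] ψ
        rfl
      · change (0 : C) ⊗ₜ[C'] _ = 0
        rw [TensorProduct.zero_tmul]
    | add x y hx hy => rw [map_add, map_add, hx, hy, Prod.mk_add_mk, add_zero]
  have hFG2 : ∀ v, F (G2 v) = (0, v) := by
    intro v
    induction v using TensorProduct.induction_on with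
    | zero => rw [map_zero, map_zero]; rfl
    | tmul c ψ =>
      refine Prod.ext ?_ ?_
      · change (0 : B) ⊗ₜ[B'] _ = 0
        rw [TensorProduct.zero_tmul]
      · change c ⊗ₜ[C'] _ = c ⊗ₜ[C'] ψ
        rfl
    | add x y hx hy => rw [map_add, map_add, hx, hy, Prod.mk_add_mk, add_zero]
  refine ⟨{ toFun := F, map_add' := map_add F, map_smul' := hlin,
            invFun := fun w => G1 w.1 + G2 w.2, left_inv := hGF,
            right_inv := fun w => by rw [map_add, hFG1, hFG2, Prod.mk_add_mk, add_zero, zero_add] },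
    fun b c φ => rfl⟩

end Groth.Agent.QFDualLib
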