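import Groth.Agent.QFDualLib.Ass
import Mathlib.RingTheory.Etale.QuasiFinite
import Mathlib.RingTheory.Ideal.IdempotentFG
import Mathlib.RingTheory.Ideal.Pure
import Mathlib.RingTheory.Flat.EquationalCriterion
import Mathlib.Algebra.Module.FinitePresentation
import Mathlib.RingTheory.RingHom.Flat
import Mathlib.RingTheory.RingHom.QuasiFinite
import Mathlib.AlgebraicGeometry.Morphisms.QuasiFinite
import Mathlib.AlgebraicGeometry.Morphisms.FiniteType
import Mathlib.RingTheory.Smooth.Flat

noncomputable section

universe u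

open TensorProduct AlgebraicGeometry CategoryTheory

namespace Groth.Agent.QFDualLib

/-- Elements whose multiplication factors through a finite free module. -/
def projIdeal (A B : Type u) [CommRing A] [CommRing B] [Algebra A B] : Ideal B where
  carrier := {s | ∃ (n : ℕ) (f : Fin n → B →ₗ[A] A) (x : Fin n → B), ∀ y, s * y = ∑ i, f i y • x i}
  zero_mem' := ⟨0, Fin.elim0, Fin.elim0, fun y => by simp⟩
  add_mem' := by
    rintro a b ⟨n, f, x, h⟩ ⟨m, g, z, h'⟩
    exact ⟨n + m, Fin.append f g, Fin.append x z, fun y => by simp [Fin.sum_univ_add, add_mul, h, h']⟩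
  smul_mem' := by
    rintro c a ⟨n, f, x, h⟩
    exact ⟨n, f, fun i => c * x i, fun y => by simp [mul_assoc, h, Finset.mul_sum, mul_smul_comm]⟩

theorem exists_idempotent_projective {R C F : Type u} [CommRing R] [IsNoetherianRing R] [CommRing C] [CommRing F]
    [Algebra R C] [Algebra R F] [Algebra C F] [IsScalarTower R C F] [Module.Finite R C] [Module.Flat C F]
    (hs : Function.Surjective (algebraMap C F)) [Module.Flat R F] :
    ∃ ε : C, algebraMap C F ε = 1 ∧ ∃ (n : ℕ) (f : Fin n → C →ₗ[R] R) (x : Fin n → C),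
      ∀ y, ε * y = ∑ i, f i y • x i := by
  haveI : Module.Finite R F :=
    Module.Finite.of_surjective (IsScalarTower.toAlgHom R C F).toLinearMap hs
  haveI : Module.FinitePresentation R F := Module.finitePresentation_of_finite R F
  haveI : Module.Projective R F := Module.Flat.projective_of_finitePresentation
  haveI : IsNoetherianRing C := IsNoetherianRing.of_finite R C
  let I := RingHom.ker (algebraMap C F)
  haveI : I.Pure := Module.Flat.of_linearEquiv
    (Ideal.quotientKerAlgEquivOfSurjective (f := Algebra.ofId C F) hs).toLinearEquiv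
  obtain ⟨e, he, hI⟩ := (I.isIdempotentElem_iff_of_fg ((isNoetherianRing_iff_ideal_fg C).1 inferInstance I)).1
    (Ideal.isIdempotentElem_of_pure I)
  have he0 : algebraMap C F e = 0 := (hI.ge (Submodule.mem_span_singleton_self e) : e ∈ I)
  obtain ⟨n, π, hπ⟩ := Module.Finite.exists_fin' R F
  obtain ⟨s, hs'⟩ := Module.projective_lifting_property π LinearMap.id hπ
  choose x hx using fun i : Fin n => hs (π (Pi.single i 1))
  refine ⟨1 - e, by rw [map_sub, map_one, he0, sub_zero], n,
    fun i => (LinearMap.proj i).comp (s.comp (IsScalarTower.toAlgHom R C F).toLinearMap),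
    fun i => (1 - e) * x i, fun y => ?_⟩
  simp only [LinearMap.comp_apply, LinearMap.proj_apply, AlgHom.toLinearMap_apply, IsScalarTower.coe_toAlgHom',
    ← mul_smul_comm, ← Finset.mul_sum]
  have hsum : algebraMap C F (∑ i, s (algebraMap C F y) i • x i) = algebraMap C F y := by
    rw [← IsScalarTower.coe_toAlgHom' R C F, map_sum]
    simp only [map_smul, IsScalarTower.coe_toAlgHom', hx]
    conv_rhs => rw [← show π (s (algebraMap C F y)) = algebraMap C F y from LinearMap.congr_fun hs' _,
      pi_eq_sum_univ' (s (algebraMap C F y)), map_sum]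
    simp [map_smul]
  have hmem : y - ∑ i, s (algebraMap C F y) i • x i ∈ I := by
    rw [RingHom.mem_ker, map_sub, hsum, sub_self]
  obtain ⟨c, hc⟩ := Submodule.mem_span_singleton.1 (hI.le hmem)
  have h0 : (1 - e) * (y - ∑ i, s (algebraMap C F y) i • x i) = 0 := by
    rw [← hc, smul_eq_mul, mul_left_comm, sub_mul, one_mul, he.eq, sub_self, mul_zero]
  rwa [mul_sub, sub_eq_zero] at h0

theorem mem_map_projIdeal_of_flat {A A' B : Type u} [CommRing A] [CommRing A'] [CommRing B] [Algebra A A']
    [Algebra A B] [Module.Flat A A'] [Module.FinitePresentation A B] {ε : A' ⊗[A] B} {n : ℕ}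
    (f : Fin n → A' ⊗[A] B →ₗ[A'] A') (x : Fin n → A' ⊗[A] B) (h : ∀ y, ε * y = ∑ i, f i y • x i) :
    ε ∈ (projIdeal A B).map (Algebra.TensorProduct.includeRight : B →ₐ[A] A' ⊗[A] B) := by
  classical
  let θ : Module.Dual A B ⊗[A] B →ₗ[A] (B →ₗ[A] B) := dualTensorHom A B B
  let Rg := LinearMap.range θ
  let L : B →ₗ[A] (B →ₗ[A] B) := LinearMap.mul A B
  let Ψ : B →ₗ[A] (B →ₗ[A] B) ⧸ Rg := Rg.mkQ.comp L
  have hker : ∀ s, Ψ s = 0 → s ∈ projIdeal A B := by
    intro s hs
    obtain ⟨t, ht⟩ := (Submodule.Quotient.mk_eq_zero Rg).1 hs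
    obtain ⟨S, hS⟩ := TensorProduct.exists_finset t
    let e := S.equivFin.symm
    refine ⟨S.card, fun i => (e i).1.1, fun i => (e i).1.2, fun y => ?_⟩
    have h1 : θ t y = s * y := LinearMap.congr_fun ht y
    rw [← h1, hS, map_sum, LinearMap.sum_apply, ← Finset.sum_coe_sort,
      ← e.sum_comp (fun p : S => θ (p.1.1 ⊗ₜ[A] p.1.2) y)]
    rfl
  have hE := Module.FinitePresentation.isBaseChange_map A B B A'
  have hD := Module.FinitePresentation.isBaseChange_map A B A A'
  let T := Rg.mkQ.lTensor A'
  have hrange : ∀ (ψ : A' ⊗[A] B →ₗ[A'] A') (c : A' ⊗[A] B),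
      T (hE.equiv.symm (ψ.smulRight c)) = 0 := by
    intro ψ c
    obtain ⟨w, hw⟩ : ∃ w, hD.equiv w =
        (TensorProduct.AlgebraTensorModule.rid A A' A').symm.toLinearMap ∘ₗ ψ :=
      hD.equiv.surjective _
    have hψ : ψ = (TensorProduct.AlgebraTensorModule.rid A A' A').toLinearMap ∘ₗ hD.equiv w := by
      rw [hw, ← LinearMap.comp_assoc, LinearEquiv.comp_coe, LinearEquiv.symm_trans_self,
        LinearEquiv.refl_toLinearMap, LinearMap.id_comp]
    rw [hψ]
    clear hw hψ
    induction w using TensorProduct.induction_on with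
    | zero => simp [show (0 : A' ⊗[A] B →ₗ[A'] A').smulRight c = 0 by ext; simp]
    | add a b ha hb =>
      rw [map_add, LinearMap.comp_add,
        show ∀ (p q : A' ⊗[A] B →ₗ[A'] A'), (p + q).smulRight c = p.smulRight c + q.smulRight c from
          fun p q => LinearMap.ext fun z => add_smul _ _ _,
        map_add, map_add, ha, hb, add_zero]
    | tmul a g =>
      induction c using TensorProduct.induction_on with
      | zero =>
        rw [show ∀ p : A' ⊗[A] B →ₗ[A'] A', p.smulRight (0 : A' ⊗[A] B) = 0 from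
          fun p => LinearMap.ext fun z => smul_zero _, map_zero, map_zero]
      | add c d hc hd =>
        rw [show ∀ p : A' ⊗[A] B →ₗ[A'] A', p.smulRight (c + d) = p.smulRight c + p.smulRight d from
          fun p => LinearMap.ext fun z => smul_add _ _ _, map_add, map_add, hc, hd, add_zero]
      | tmul a' b =>
        have key : hE.equiv ((a * a') ⊗ₜ[A] θ (g ⊗ₜ[A] b)) =
            ((TensorProduct.AlgebraTensorModule.rid A A' A').toLinearMap ∘ₗ hD.equiv (a ⊗ₜ[A] g)).smulRight
              (a' ⊗ₜ[A] b) := by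
          rw [IsBaseChange.equiv_tmul, IsBaseChange.equiv_tmul]
          refine TensorProduct.AlgebraTensorModule.ext fun z y => ?_
          simp [θ, TensorProduct.smul_tmul', TensorProduct.tmul_smul]
          congr 1
          ring
        rw [← key, LinearEquiv.symm_apply_apply, LinearMap.lTensor_tmul, Submodule.mkQ_apply,
          (Submodule.Quotient.mk_eq_zero Rg).2 (LinearMap.mem_range_self θ _), TensorProduct.tmul_zero]
  have hL : ∀ z : A' ⊗[A] B, hE.equiv (L.lTensor A' z) = LinearMap.mulLeft A' z := by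
    intro z
    induction z using TensorProduct.induction_on with
    | zero => simp [LinearMap.mulLeft_zero_eq_zero]
    | add a b ha hb =>
      rw [map_add, map_add, ha, hb]
      exact (LinearMap.ext fun w => add_mul a b w).symm
    | tmul a b =>
      rw [LinearMap.lTensor_tmul, IsBaseChange.equiv_tmul]
      refine TensorProduct.AlgebraTensorModule.ext fun z y => ?_
      simp [L, TensorProduct.smul_tmul']
  have hzero : Ψ.lTensor A' ε = 0 := by
    have h1 : hE.equiv.symm (LinearMap.mulLeft A' ε) = L.lTensor A' ε := by rw [← hL, LinearEquiv.symm_apply_apply]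
    rw [show Ψ.lTensor A' ε = T (L.lTensor A' ε) from LinearMap.lTensor_comp_apply A' Rg.mkQ L ε, ← h1,
      show LinearMap.mulLeft A' ε = ∑ i, (f i).smulRight (x i) from LinearMap.ext fun y => by simp [h],
      map_sum, map_sum]
    exact Finset.sum_eq_zero fun i _ => hrange _ _
  obtain ⟨z, hz⟩ := (Module.Flat.lTensor_exact (M := A') (LinearMap.exact_subtype_ker_map Ψ) _).1 hzero
  rw [← hz]
  clear hz
  induction z using TensorProduct.induction_on with
  | zero => simp
  | tmul a s =>
    rw [LinearMap.lTensor_tmul, show a ⊗ₜ[A] ((LinearMap.ker Ψ).subtype s) =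
      (a ⊗ₜ[A] (1 : B)) * (1 ⊗ₜ[A] (s : B)) by simp]
    exact Ideal.mul_mem_left _ _ (Ideal.mem_map_of_mem _ (hker _ s.2))
  | add a b ha hb => rw [map_add]; exact add_mem ha hb

variable {A B' B : Type u} [CommRing A] [CommRing B'] [CommRing B] [Algebra A B'] [Algebra B' B] [Algebra A B]
  [IsScalarTower A B' B]

theorem finiteType_of_qfFactor [IsNoetherianRing A] (hf : QFDual.IsQFFactor A B' B) : Algebra.FiniteType A B := by
  haveI := hf.finite
  haveI := hf.isOpenImmersion
  have : LocallyOfFiniteType (Spec.map (CommRingCat.ofHom (algebraMap B' B))) := inferInstance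
  have h := (HasRingHomProperty.Spec_iff (P := @LocallyOfFiniteType)).1 this
  haveI : Algebra.FiniteType B' B := RingHom.finiteType_algebraMap.1 h
  exact Algebra.FiniteType.trans (S := B') inferInstance inferInstance

theorem quasiFinite_of_qfFactor (hf : QFDual.IsQFFactor A B' B) : Algebra.QuasiFinite A B := by
  haveI := hf.finite
  haveI := hf.isOpenImmersion
  have : LocallyQuasiFinite (Spec.map (CommRingCat.ofHom (algebraMap B' B))) := inferInstance
  have h := (HasRingHomProperty.Spec_iff (P := @LocallyQuasiFinite)).1 this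
  haveI : Algebra.QuasiFinite B' B := RingHom.quasiFinite_algebraMap.1 h
  exact Algebra.QuasiFinite.trans A B' B

/-- For a flat quasi-finite factorisation the projective locus of `B'` contains `Spec B`. -/
theorem map_projIdeal_eq_top [IsNoetherianRing A] [Module.Flat A B] (hf : QFDual.IsQFFactor A B' B) :
    (projIdeal A B').map (algebraMap B' B) = ⊤ := by
  classical
  by_contra hne
  obtain ⟨q, hq, hle⟩ := Ideal.exists_le_maximal _ hne
  haveI := finiteType_of_qfFactor hf
  haveI := quasiFinite_of_qfFactor hf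
  haveI := hf.finite
  haveI := hf.isOpenImmersion
  let p := q.comap (algebraMap A B)
  haveI : q.LiesOver p := ⟨rfl⟩
  obtain ⟨R, _, _, _, P, _, _, e, -, P', _, _, hP'q, heP', -, hfin, -⟩ :=
    Algebra.exists_etale_isIdempotentElem_forall_liesOver_eq p q
  haveI : IsNoetherianRing R := Algebra.FiniteType.isNoetherianRing A R
  let F := Localization.Away e
  let κ : R ⊗[A] B' →ₐ[R] F := (IsScalarTower.toAlgHom R (R ⊗[A] B) F).comp
    (Algebra.TensorProduct.map (AlgHom.id R R) (IsScalarTower.toAlgHom A B' B))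
  letI : Algebra (R ⊗[A] B') F := κ.toRingHom.toAlgebra
  haveI : IsScalarTower R (R ⊗[A] B') F := IsScalarTower.of_algebraMap_eq fun a => (κ.commutes a).symm
  haveI : Module.Flat R F :=
    Module.Flat.trans R (R ⊗[A] B) F
  have hflatB : (algebraMap B' B).Flat := NoetherOpen.flat_of_openImmersion hf.isOpenImmersion
  haveI : Module.Flat (R ⊗[A] B') F := by
    refine RingHom.flat_algebraMap_iff.1 ?_
    exact RingHom.Flat.comp
      (RingHom.Flat.tensorProductMap (f := AlgHom.id R R) (g := IsScalarTower.toAlgHom A B' B)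
        (RingHom.Flat.id R) hflatB)
      (RingHom.flat_algebraMap_iff.2 (inferInstance : Module.Flat (R ⊗[A] B) F))
  haveI : Epi (CommRingCat.ofHom (algebraMap B' B)) := NoetherOpen.epi_of_mono_specMap _
  haveI : Epi (CommRingCat.ofHom κ.toRingHom) := ⟨fun {T} g₁ g₂ hg => by
    have hg' : ∀ z, g₁.hom (κ z) = g₂.hom (κ z) := fun z => RingHom.congr_fun (congrArg CommRingCat.Hom.hom hg) z
    have hB : ∀ b : B, g₁.hom (algebraMap _ F ((1 : R) ⊗ₜ[A] b)) = g₂.hom (algebraMap _ F ((1 : R) ⊗ₜ[A] b)) := by
      have := (cancel_epi (CommRingCat.ofHom (algebraMap B' B))).1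
        (show CommRingCat.ofHom (algebraMap B' B) ≫ (CommRingCat.ofHom ((algebraMap (R ⊗[A] B) F).comp
            (Algebra.TensorProduct.includeRight : B →ₐ[A] R ⊗[A] B).toRingHom) ≫ g₁) =
          CommRingCat.ofHom (algebraMap B' B) ≫ (CommRingCat.ofHom ((algebraMap (R ⊗[A] B) F).comp
            (Algebra.TensorProduct.includeRight : B →ₐ[A] R ⊗[A] B).toRingHom) ≫ g₂) by
          refine CommRingCat.hom_ext (RingHom.ext fun b' => ?_)
          have := hg' (1 ⊗ₜ b')
          simpa [κ] using this)
      exact fun b => RingHom.congr_fun (congrArg CommRingCat.Hom.hom this) b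
    refine CommRingCat.hom_ext (IsLocalization.ringHom_ext (Submonoid.powers e) (RingHom.ext fun z => ?_))
    induction z using TensorProduct.induction_on with
    | zero => simp
    | tmul r b =>
      have hr := hg' (r ⊗ₜ 1)
      rw [show r ⊗ₜ[A] b = (r ⊗ₜ[A] (1 : B)) * (1 ⊗ₜ b) by simp, map_mul, map_mul]
      congr 1
      · simpa [κ] using hr
      · exact hB b
    | add a b ha hb => rw [map_add, map_add, ha, hb]⟩
  have hsurj : Function.Surjective (algebraMap (R ⊗[A] B') F) := by
    refine RingHom.surjective_of_epi_of_finite (CommRingCat.ofHom κ.toRingHom) ?_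
    exact RingHom.finite_algebraMap.2 (Module.Finite.of_restrictScalars_finite R (R ⊗[A] B') F)
  obtain ⟨ε, hε1, n, f, x, hfx⟩ := exists_idempotent_projective (R := R) hsurj
  haveI : Module.FinitePresentation A B' := Module.finitePresentation_of_finite A B'
  have hmem := mem_map_projIdeal_of_flat f x hfx
  have hεQ : ε ∈ P'.comap (Algebra.TensorProduct.map (AlgHom.id R R) (IsScalarTower.toAlgHom A B' B)) := by
    refine (Ideal.map_le_iff_le_comap.2 fun s hs => ?_) hmem
    change Algebra.TensorProduct.map (AlgHom.id R R) (IsScalarTower.toAlgHom A B' B) (1 ⊗ₜ s) ∈ P'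
    rw [Algebra.TensorProduct.map_tmul]
    have : algebraMap B' B s ∈ q := hle (Ideal.mem_map_of_mem _ hs)
    rw [← hP'q] at this
    exact this
  have hdisj : Disjoint (Submonoid.powers e : Set (R ⊗[A] B)) (P' : Set (R ⊗[A] B)) := by
    rw [Set.disjoint_left]
    rintro _ ⟨k, rfl⟩ hk
    exact heP' (‹P'.IsPrime›.mem_of_pow_mem k hk)
  have h1 : algebraMap (R ⊗[A] B) F (Algebra.TensorProduct.map (AlgHom.id R R) (IsScalarTower.toAlgHom A B' B) ε) ∈
      P'.map (algebraMap (R ⊗[A] B) F) := Ideal.mem_map_of_mem _ hεQ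
  have hne' := IsLocalization.isPrime_of_isPrime_disjoint (Submonoid.powers e) F P' ‹_› hdisj
  exact hne'.ne_top ((Ideal.eq_top_iff_one _).2 (hε1 ▸ h1))

end Groth.Agent.QFDualLib
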