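import Groth.Agent.QFDualLib.FibreIff
import Groth.Agent.Tate.Omega
import Groth.Agent.SyntLCI.BaseChange
import Groth.Agent.SyntLCI.Local
import Mathlib.RingTheory.QuasiFinite.Basic
import Mathlib.RingTheory.Artinian.Ring

noncomputable section

universe u

open TensorProduct CategoryTheory AlgebraicGeometry

namespace Groth.Agent.QFDualLib

/-- A finite complete intersection algebra over a field is Frobenius. -/
theorem exists_omega_equiv_field {k C : Type u} [Field k] [CommRing C] [Algebra k C] [Module.Finite k C]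
    (h : Synt.IsSyntomic k C) : Nonempty (C ≃ₗ[C] Disc.Omega k C) := by
  classical
  haveI : IsArtinianRing C := IsArtinianRing.of_finite k C
  obtain ⟨n, φ₀, hφ₀⟩ := Algebra.FiniteType.iff_quotient_mvPolynomial''.1
    (inferInstance : Algebra.FiniteType k C)
  have hq : ∀ q : MaximalSpectrum C, ∃ θ : Disc.Omega k C →ₗ[C] C, ∃ φ, θ φ ∉ q.asIdeal := by
    intro q
    haveI := q.isMaximal
    obtain ⟨f, c, hf, hc, τ, hτ⟩ := Tate.exists_good_relations h φ₀ hφ₀ q.asIdeal
    have hΔ := Tate.delta_mul φ₀ hφ₀ c f hf hc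
    exact ⟨{ toFun := fun l => Tate.applyRight l.toLinearMap (Tate.psi φ₀ c.det)
             map_add' := fun l l' => by simp [Tate.applyRight, LinearMap.lTensor_add]
             map_smul' := fun b l => Tate.applyRight_comp_mulLeft hΔ l.toLinearMap b }, ⟨τ⟩, hτ⟩
  choose θ φ hθ using hq
  haveI := Fintype.ofFinite (MaximalSpectrum C)
  let a : MaximalSpectrum C → C := fun q =>
    ((Ideal.quotientInfRingEquivPiQuotient (fun r : MaximalSpectrum C => r.asIdeal) (fun r s hrs =>
      Ideal.isCoprime_iff_sup_eq.2 (Ideal.IsMaximal.coprime_of_ne r.isMaximal s.isMaximal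
        fun h => hrs (MaximalSpectrum.ext h)))).symm (Pi.single q 1)).out
  have ha : ∀ q r, Ideal.Quotient.mk r.asIdeal (a q) = if r = q then 1 else 0 := by
    intro q r
    let e := Ideal.quotientInfRingEquivPiQuotient (fun r : MaximalSpectrum C => r.asIdeal) (fun r s hrs =>
      Ideal.isCoprime_iff_sup_eq.2 (Ideal.IsMaximal.coprime_of_ne r.isMaximal s.isMaximal
        fun h => hrs (MaximalSpectrum.ext h)))
    have h1 : e (Ideal.Quotient.mk _ (a q)) = Pi.single q 1 := by
      rw [show Ideal.Quotient.mk _ (a q) = e.symm (Pi.single q 1) from Quotient.out_eq _, RingEquiv.apply_symm_apply]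
    have h2 := congrFun h1 r
    refine Eq.trans h2 ?_
    by_cases hrq : r = q
    · subst hrq; rw [Pi.single_eq_same, if_pos rfl]
    · rw [Pi.single_eq_of_ne hrq, if_neg hrq]
  let Θ : Disc.Omega k C →ₗ[C] C := ∑ q, a q • θ q
  have hsurj : Function.Surjective Θ := by
    rw [← LinearMap.range_eq_top]
    by_contra hne
    obtain ⟨r, hr, hle⟩ := Ideal.exists_le_maximal (LinearMap.range Θ : Ideal C) hne
    let r' : MaximalSpectrum C := ⟨r, hr⟩
    refine hθ r' (Ideal.Quotient.eq_zero_iff_mem.1 ?_)
    have h0 : Ideal.Quotient.mk r'.asIdeal (Θ (φ r')) = 0 :=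
      Ideal.Quotient.eq_zero_iff_mem.2 (hle ⟨φ r', rfl⟩)
    simp only [Θ, LinearMap.sum_apply, LinearMap.smul_apply, smul_eq_mul, map_sum, map_mul, ha] at h0
    rwa [Finset.sum_eq_single r' (fun q _ hq => by rw [if_neg (Ne.symm hq), zero_mul])
      (fun h => absurd (Finset.mem_univ _) h), if_pos rfl, one_mul] at h0
  let Θk : Module.Dual k C →ₗ[k] C :=
    { toFun := fun f => Θ ⟨f⟩
      map_add' := fun f g => map_add Θ ⟨f⟩ ⟨g⟩
      map_smul' := fun r f => by
        have : (Disc.Omega.mk (r • f) : Disc.Omega k C) = algebraMap k C r • Disc.Omega.mk f :=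
          Disc.Omega.ext (LinearMap.ext fun x => by
            change r • f x = f (algebraMap k C r * x)
            rw [← Algebra.smul_def, map_smul])
        rw [this, map_smul, RingHom.id_apply, algebraMap_smul] }
  have hs' : Function.Surjective Θk := fun c => by
    obtain ⟨f, hf⟩ := hsurj c
    exact ⟨f.toLinearMap, hf⟩
  have hinj : Function.Injective Θk :=
    (LinearMap.injective_iff_surjective_of_finrank_eq_finrank Subspace.dual_finrank_eq).2 hs'
  refine ⟨(LinearEquiv.ofBijective Θ ⟨fun x y hxy => ?_, hsurj⟩).symm⟩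
  exact Disc.Omega.ext (hinj hxy)

/-- The dualizing module through a finite quotient that is flat. -/
theorem exists_omega_factor_equiv {k C C₁ : Type u} [CommRing k] [CommRing C] [CommRing C₁] [Algebra k C]
    [Algebra k C₁] [Algebra C C₁] [IsScalarTower k C C₁] [IsNoetherianRing C] [Module.Flat C C₁]
    (hs : Function.Surjective (algebraMap C C₁)) :
    Nonempty (QFDual.omega k C C₁ ≃ₗ[C₁] Disc.Omega k C₁) := by
  classical
  let I := RingHom.ker (algebraMap C C₁)
  haveI : I.Pure := Module.Flat.of_linearEquiv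
    (Ideal.quotientKerAlgEquivOfSurjective (f := Algebra.ofId C C₁) hs).toLinearEquiv
  obtain ⟨e, he, hI⟩ := (I.isIdempotentElem_iff_of_fg ((isNoetherianRing_iff_ideal_fg C).1 inferInstance I)).1
    (Ideal.isIdempotentElem_of_pure I)
  have he0 : algebraMap C C₁ e = 0 := (hI.ge (Submodule.mem_span_singleton_self e) : e ∈ I)
  have hkill : ∀ x ∈ I, (1 - e) * x = 0 := fun x hx => by
    obtain ⟨c, rfl⟩ := Submodule.mem_span_singleton.1 (hI.le hx)
    rw [smul_eq_mul, mul_left_comm, sub_mul, one_mul, he.eq, sub_self, mul_zero]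
  choose g hg using hs
  let sect : C₁ →ₗ[k] C :=
    { toFun := fun y => (1 - e) * g y
      map_add' := fun y y' => by
        rw [← mul_add, ← sub_eq_zero, ← mul_sub]
        exact hkill _ (by rw [RingHom.mem_ker, map_sub, map_add, hg, hg, hg, sub_self])
      map_smul' := fun r y => by
        rw [RingHom.id_apply, ← mul_smul_comm, ← sub_eq_zero, ← mul_sub]
        exact hkill _ (by
          rw [RingHom.mem_ker, map_sub, hg, Algebra.smul_def r (g y), map_mul, hg,
            ← IsScalarTower.algebraMap_apply, ← Algebra.smul_def, sub_self]) }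
  have hsect : ∀ y, sect (algebraMap C C₁ y) = (1 - e) * y := fun y => by
    change (1 - e) * g _ = _
    rw [← sub_eq_zero, ← mul_sub]
    exact hkill _ (by rw [RingHom.mem_ker, map_sub, hg, sub_self])
  letI : Module C (Disc.Omega k C₁) := Module.compHom _ (algebraMap C C₁)
  haveI : IsScalarTower C C₁ (Disc.Omega k C₁) := IsScalarTower.of_algebraMap_smul fun _ _ => rfl
  let back : Disc.Omega k C →ₗ[C] Disc.Omega k C₁ :=
    { toFun := fun φ => ⟨φ.toLinearMap.comp sect⟩
      map_add' := fun φ ψ => rfl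
      map_smul' := fun c φ => Disc.Omega.ext (LinearMap.ext fun y => by
        change φ.toLinearMap (c * ((1 - e) * g y)) = φ.toLinearMap (sect (algebraMap C C₁ c * y))
        congr 1
        obtain ⟨y', rfl⟩ : ∃ y', algebraMap C C₁ y' = y := ⟨g y, hg y⟩
        rw [← map_mul, hsect, show (1 - e) * g (algebraMap C C₁ y') = (1 - e) * y' from hsect y']
        ring) }
  let F : QFDual.omega k C C₁ →ₗ[C₁] Disc.Omega k C₁ := back.liftBaseChange C₁
  have hF : ∀ b φ, F (b ⊗ₜ[C] φ) = b • back φ := fun b φ => LinearMap.liftBaseChange_tmul (l := back) (x := b) (y := φ)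
  refine ⟨LinearEquiv.ofBijective F ⟨?_, fun ψ => ?_⟩⟩
  · have hr : ∀ z : QFDual.omega k C C₁, ∃ φ : Disc.Omega k C, z = (1 : C₁) ⊗ₜ[C] φ := by
      intro z
      induction z using TensorProduct.induction_on with
      | zero => exact ⟨0, (TensorProduct.tmul_zero _ _).symm⟩
      | tmul b φ =>
        exact ⟨g b • φ, by rw [← TensorProduct.smul_tmul, Algebra.smul_def, mul_one, hg]⟩
      | add x y hx hy =>
        obtain ⟨a, rfl⟩ := hx; obtain ⟨b, rfl⟩ := hy
        exact ⟨a + b, (TensorProduct.tmul_add _ _ _).symm⟩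
    rw [injective_iff_map_eq_zero]
    intro z hz
    obtain ⟨φ, rfl⟩ := hr z
    rw [hF, one_smul] at hz
    have h1 : (1 - e) • φ = 0 := Disc.Omega.ext (LinearMap.ext fun y => by
      change φ.toLinearMap ((1 - e) * y) = 0
      rw [← hsect]
      exact LinearMap.congr_fun (congrArg Disc.Omega.toLinearMap hz) (algebraMap C C₁ y))
    rw [show (1 : C₁) = (1 - e) • (1 : C₁) by rw [Algebra.smul_def, mul_one, map_sub, map_one, he0, sub_zero],
      TensorProduct.smul_tmul, h1, TensorProduct.tmul_zero]
  · refine ⟨(1 : C₁) ⊗ₜ[C] Disc.Omega.mk (ψ.toLinearMap.comp (IsScalarTower.toAlgHom k C C₁).toLinearMap), ?_⟩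
    rw [hF, one_smul]
    refine Disc.Omega.ext (LinearMap.ext fun y => ?_)
    change ψ.toLinearMap (algebraMap C C₁ ((1 - e) * g y)) = ψ.toLinearMap y
    rw [map_mul, map_sub, map_one, he0, sub_zero, one_mul, hg]

/-- Invertibility for a syntomic quasi-finite map. -/
theorem invertible_omega_of_syntomic {A B' B : Type u} [CommRing A] [CommRing B'] [CommRing B] [IsNoetherianRing A]
    [Algebra A B'] [Algebra B' B] [Algebra A B] [IsScalarTower A B' B]
    (hf : QFDual.IsQFFactor A B' B) (hs : Synt.IsSyntomic A B) : Module.Invertible B (QFDual.omega A B' B) := by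
  haveI := hf.finite
  haveI := finiteType_of_qfFactor hf
  haveI : IsNoetherianRing B := Algebra.FiniteType.isNoetherianRing A B
  haveI := hs.1
  haveI : Module.Flat B' B := RingHom.flat_algebraMap_iff.1 (NoetherOpen.flat_of_openImmersion hf.isOpenImmersion)
  haveI := quasiFinite_of_qfFactor hf
  haveI := hf.isOpenImmersion
  haveI hepi : Epi (CommRingCat.ofHom (algebraMap B' B)) := NoetherOpen.epi_of_mono_specMap _
  refine invertible_omega_of_fibres hf fun p _ B'₁ B₁ _ _ _ _ _ _ _ _ _ _ _ _ _ _ _ _ _ hp' hp => ?_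
  haveI : IsScalarTower A B'₁ B₁ := IsScalarTower.of_algebraMap_eq fun a => by
    rw [IsScalarTower.algebraMap_apply A p.ResidueField B₁, IsScalarTower.algebraMap_apply p.ResidueField B'₁ B₁,
      ← IsScalarTower.algebraMap_apply A p.ResidueField B'₁]
  haveI : IsScalarTower A B' B₁ := IsScalarTower.of_algebraMap_eq fun a => by
    rw [IsScalarTower.algebraMap_apply A B B₁, IsScalarTower.algebraMap_apply A B' B,
      ← IsScalarTower.algebraMap_apply B' B B₁]
  haveI : Algebra.IsPushout A B' p.ResidueField B'₁ := hp'.symm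
  haveI hpo : Algebra.IsPushout B' B B'₁ B₁ :=
    (Algebra.IsPushout.comp_iff A B' p.ResidueField B'₁).1 hp.symm
  haveI : Module.Flat B'₁ B₁ := by
    haveI : Algebra.IsPushout B' B'₁ B B₁ := hpo.symm
    exact Module.Flat.of_linearEquiv (Algebra.IsPushout.equiv B' B'₁ B B₁).symm.toLinearEquiv
  haveI : Module.Finite p.ResidueField B'₁ := Module.Finite.equiv hp'.out.equiv
  haveI := hp
  let eB : p.ResidueField ⊗[A] B ≃ₐ[p.ResidueField] B₁ := Algebra.IsPushout.equiv A p.ResidueField B B₁
  haveI : Algebra.QuasiFinite p.ResidueField B₁ :=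
    Algebra.QuasiFinite.of_surjective_algHom eB.toAlgHom eB.surjective
  haveI : Module.Finite p.ResidueField B₁ := Module.Finite.of_quasiFinite
  haveI : Module.Finite B'₁ B₁ := Module.Finite.of_restrictScalars_finite p.ResidueField B'₁ B₁
  haveI : Epi (CommRingCat.ofHom (algebraMap B'₁ B₁)) := ⟨fun {T} g₁ g₂ hg => by
    have hg' : ∀ z, g₁.hom (algebraMap B'₁ B₁ z) = g₂.hom (algebraMap B'₁ B₁ z) := fun z =>
      RingHom.congr_fun (congrArg CommRingCat.Hom.hom hg) z
    have hB := (cancel_epi (CommRingCat.ofHom (algebraMap B' B))).1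
        (show CommRingCat.ofHom (algebraMap B' B) ≫ (CommRingCat.ofHom (algebraMap B B₁) ≫ g₁) =
          CommRingCat.ofHom (algebraMap B' B) ≫ (CommRingCat.ofHom (algebraMap B B₁) ≫ g₂) by
          refine CommRingCat.hom_ext (RingHom.ext fun b' => ?_)
          have := hg' (algebraMap B' B'₁ b')
          rwa [← IsScalarTower.algebraMap_apply, IsScalarTower.algebraMap_apply B' B B₁] at this)
    refine CommRingCat.hom_ext (RingHom.ext fun z => ?_)
    induction z using hpo.out.inductionOn with
    | zero => simp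
    | tmul c => exact hg' c
    | smul b z hz =>
      have hb : g₁.hom (algebraMap B B₁ b) = g₂.hom (algebraMap B B₁ b) :=
        RingHom.congr_fun (congrArg CommRingCat.Hom.hom hB) b
      rw [Algebra.smul_def, map_mul, map_mul, hz, hb]
    | add a b ha hb => rw [map_add, map_add, ha, hb]⟩
  have hsurj : Function.Surjective (algebraMap B'₁ B₁) :=
    RingHom.surjective_of_epi_of_finite (CommRingCat.ofHom (algebraMap B'₁ B₁))
      (RingHom.finite_algebraMap.2 inferInstance)
  haveI : IsNoetherianRing B'₁ := IsNoetherianRing.of_finite p.ResidueField B'₁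
  have hsyn : Synt.IsSyntomic p.ResidueField B₁ :=
    SyntLCI.isSyntomic_congr p.ResidueField eB (SyntLCI.isSyntomic_baseChange hs p.ResidueField)
  obtain ⟨e₁⟩ := exists_omega_factor_equiv (k := p.ResidueField) hsurj
  obtain ⟨e₂⟩ := exists_omega_equiv_field hsyn
  exact Module.Invertible.congr (e₂.trans e₁.symm)

end Groth.Agent.QFDualLib
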