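import Groth.Prelude.Def_Disc
import Groth.Agent.Tate.Noether
import Groth.Agent.Tate.Trace
import Mathlib.RingTheory.Unramified.Locus
import Mathlib.RingTheory.LocalRing.Module
import Mathlib.FieldTheory.IsAlgClosed.AlgebraicClosure
import Mathlib.RingTheory.Artinian.Ring
import Mathlib.RingTheory.Trace.Basic
import Mathlib.RingTheory.TensorProduct.Free

noncomputable section

universe u v

open TensorProduct

namespace Groth.Agent.QFDualLib

variable {A : Type u} {B : Type v} [CommRing A] [CommRing B] [Algebra A B] [Module.Finite A B] [Module.Free A B]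

theorem noether_subset_different : (Disc.noetherDifferent A B : Set B) ⊆ Disc.differentSet A B := by
  intro b hb φ
  rw [SetLike.mem_coe, Disc.noetherDifferent,
    Ideal.mem_map_iff_of_surjective _ fun b => ⟨b ⊗ₜ 1, by simp⟩] at hb
  obtain ⟨z, hz, rfl⟩ := hb
  rw [Submodule.mem_annihilator] at hz
  have hz' : ∀ c : B, z * (c ⊗ₜ[A] 1) = z * (1 ⊗ₜ[A] c) := fun c => by
    have h1 := hz (c ⊗ₜ 1 - 1 ⊗ₜ c) (by simp [RingHom.mem_ker])
    rwa [smul_eq_mul, mul_sub, sub_eq_zero] at h1
  exact ⟨Tate.applyRight φ z, fun y => (Tate.trace_applyRight hz' φ y).symm⟩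

/-- If some element of the different is nonzero at an algebraically closed point then every derivation at
that point vanishes. -/
theorem derivation_eq_zero {K : Type v} [Field K] [IsAlgClosed K] [Algebra A K] (χ : B →ₐ[A] K) {r : B}
    (hr : r ∈ Disc.differentSet A B) (hrχ : χ r ≠ 0) (d : B →ₗ[A] K)
    (hd : ∀ x y, d (x * y) = χ x * d y + χ y * d x) : d = 0 := by
  classical
  let C := K ⊗[A] B
  let b := Module.Free.chooseBasis A B
  let bC := Algebra.TensorProduct.basis K b
  let χC : C →ₐ[K] K := Algebra.TensorProduct.lift (Algebra.ofId K K) χ fun _ _ => Commute.all _ _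
  let dC : C →ₗ[K] K := d.liftBaseChange K
  have hχC : ∀ c x, χC (c ⊗ₜ[A] x) = c * χ x := fun c x => Algebra.TensorProduct.lift_tmul _ _ _ c x
  have hdC : ∀ c x, dC (c ⊗ₜ[A] x) = c * d x := fun c x => LinearMap.liftBaseChange_tmul (l := d) (x := c) (y := x)
  have hdmul : ∀ p q : C, dC (p * q) = χC p * dC q + χC q * dC p := by
    intro p q
    induction p using TensorProduct.induction_on with
    | zero => simp
    | tmul c x =>
      induction q using TensorProduct.induction_on with
      | zero => simp
      | tmul c' x' =>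
        rw [Algebra.TensorProduct.tmul_mul_tmul, hdC, hdC, hdC, hχC, hχC, hd]
        ring
      | add q q' hq hq' => rw [mul_add, map_add, map_add, map_add, hq, hq']; ring
    | add p p' hp hp' => rw [add_mul, map_add, map_add, map_add, hp, hp']; ring
  have htr : ∀ x : B, Algebra.trace K C (1 ⊗ₜ[A] x) = algebraMap A K (Algebra.trace A B x) := by
    intro x
    rw [Algebra.trace_eq_matrix_trace bC, Algebra.trace_eq_matrix_trace b]
    simp only [Matrix.trace, Matrix.diag_apply, map_sum, Algebra.leftMulMatrix_eq_repr_mul]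
    refine Finset.sum_congr rfl fun i _ => ?_
    rw [Algebra.TensorProduct.basis_apply, Algebra.TensorProduct.tmul_mul_tmul, one_mul,
      Algebra.TensorProduct.basis_repr_tmul]
    simp [Algebra.algebraMap_eq_smul_one]
  choose c hc using fun i => hr (b.coord i)
  let r' : C := 1 ⊗ₜ r
  have hrep : ∀ z : C, ∀ i, bC.repr (r' * z) i = Algebra.trace K C ((1 ⊗ₜ[A] c i) * z) := by
    intro z i
    induction z using TensorProduct.induction_on with
    | zero => simp
    | tmul k x =>
      have h1 : (1 : K) ⊗ₜ[A] c i * (k ⊗ₜ[A] x) = k • ((1 : K) ⊗ₜ[A] (c i * x)) := by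
        rw [Algebra.TensorProduct.tmul_mul_tmul, one_mul, TensorProduct.smul_tmul', smul_eq_mul, mul_one]
      rw [h1, map_smul, htr, ← hc i x, Algebra.TensorProduct.tmul_mul_tmul, one_mul,
        Algebra.TensorProduct.basis_repr_tmul]
      simp [Algebra.algebraMap_eq_smul_one]
    | add z z' hz hz' => rw [mul_add, mul_add, map_add, map_add, Finsupp.add_apply, hz, hz']
  have hnil : ∀ z : C, IsNilpotent z → r' * z = 0 := by
    intro z hz
    refine bC.repr.injective (Finsupp.ext fun i => ?_)
    rw [map_zero, Finsupp.zero_apply, hrep]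
    exact (Algebra.isNilpotent_trace_of_isNilpotent
      ((Commute.all _ _).isNilpotent_mul_left hz)).eq_zero
  haveI : IsArtinianRing C := IsArtinianRing.of_finite K C
  let m : Ideal C := RingHom.ker χC
  haveI : m.IsPrime := RingHom.ker_isPrime _
  have hd0 : ∀ z ∈ m, dC z = 0 := by
    intro z hz
    let Cm := Localization.AtPrime m
    obtain ⟨n, hn⟩ : IsNilpotent (algebraMap C Cm z) := by
      have h1 : algebraMap C Cm z ∈ IsLocalRing.maximalIdeal Cm :=
        (IsLocalization.AtPrime.to_map_mem_maximal_iff Cm m z).2 hz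
      haveI : IsArtinianRing Cm := IsArtinianRing.localization_artinian m.primeCompl Cm
      have h2 := IsArtinianRing.isNilpotent_jacobson_bot (R := Cm)
      rw [IsLocalRing.jacobson_eq_maximalIdeal ⊥ bot_ne_top] at h2
      obtain ⟨n, hn⟩ := h2
      refine ⟨n, ?_⟩
      have h3 := Ideal.pow_mem_pow h1 n
      rw [hn] at h3
      exact h3
    rw [← map_pow, IsLocalization.map_eq_zero_iff m.primeCompl] at hn
    obtain ⟨s, hs⟩ := hn
    have hsz : IsNilpotent ((s : C) * z) := ⟨n + 1, by
      rw [mul_pow, pow_succ, pow_succ z, mul_assoc, ← mul_assoc (s : C) (z ^ n) z, hs, zero_mul, mul_zero]⟩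
    have h0 := congrArg dC (hnil _ hsz)
    rw [← mul_assoc, hdmul, show χC z = 0 from hz, zero_mul, add_zero, map_zero, map_mul] at h0
    have hs0 : χC (s : C) ≠ 0 := fun h => s.2 h
    have hr0 : χC r' ≠ 0 := by rw [hχC, one_mul]; exact hrχ
    exact (mul_eq_zero.1 h0).resolve_left (mul_ne_zero hr0 hs0)
  refine LinearMap.ext fun x => ?_
  have h1 : (1 : K) ⊗ₜ[A] x - χ x ⊗ₜ[A] (1 : B) ∈ m := by simp [m, RingHom.mem_ker, hχC]
  have h2 := hd0 _ h1
  have hd1 : d 1 = 0 := by
    have := hd 1 1
    simp only [mul_one, map_one, one_mul] at this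
    exact left_eq_add.1 this
  rw [map_sub, hdC, hdC, hd1, mul_zero, sub_zero, one_mul] at h2
  exact h2

theorem different_subset_iff [IsNoetherianRing A] (q : Ideal B) [q.IsPrime] :
    Disc.differentSet A B ⊆ q ↔ ¬ Algebra.IsUnramifiedAt A q := by
  constructor
  · intro h hu
    have h1 : (⟨q, inferInstance⟩ : PrimeSpectrum B) ∈ {q : PrimeSpectrum B | Disc.noetherDifferent A B ≤ q.asIdeal} :=
      fun x hx => h (noether_subset_different hx)
    rw [Tate.zeroLocus_noetherDifferent] at h1
    exact h1 hu
  · intro hu r hr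
    by_contra hrq
    have hs : (⟨q, inferInstance⟩ : PrimeSpectrum B) ∈ Module.support B Ω[B⁄A] := by
      by_contra h
      have : (⟨q, inferInstance⟩ : PrimeSpectrum B) ∈ Algebra.unramifiedLocus A B := by
        rw [Algebra.unramifiedLocus_eq_compl_support]; exact h
      exact hu this
    haveI := (Module.mem_support_iff_nontrivial_residueField_tensorProduct _).1 hs
    obtain ⟨w, hw⟩ := exists_ne (0 : q.ResidueField ⊗[B] Ω[B⁄A])
    obtain ⟨f, hf⟩ := not_forall.1 ((Module.forall_dual_apply_eq_zero_iff q.ResidueField w).not.2 hw)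
    let K := AlgebraicClosure q.ResidueField
    let χ : B →ₐ[A] K :=
      (IsScalarTower.toAlgHom A q.ResidueField K).comp (IsScalarTower.toAlgHom A B q.ResidueField)
    let g : Ω[B⁄A] →ₗ[B] q.ResidueField := (f.restrictScalars B).comp (TensorProduct.mk B _ _ 1)
    let e := IsScalarTower.toAlgHom A q.ResidueField K
    let d : B →ₗ[A] K := e.toLinearMap.comp ((g.restrictScalars A).comp (KaehlerDifferential.D A B).toLinearMap)
    have hd : ∀ x y, d (x * y) = χ x * d y + χ y * d x := by
      intro x y
      change e (g (KaehlerDifferential.D A B (x * y))) = _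
      rw [Derivation.leibniz, map_add, map_smul, map_smul, map_add, Algebra.smul_def, Algebra.smul_def, map_mul, map_mul]
      rfl
    have hrχ : χ r ≠ 0 := fun h0 => hrq
      (Ideal.algebraMap_residueField_eq_zero.1 ((map_eq_zero_iff e e.toRingHom.injective).1 h0))
    have hd0 := derivation_eq_zero χ hr hrχ d hd
    refine hf ?_
    have hg : g = 0 := by
      refine LinearMap.ext_on (KaehlerDifferential.span_range_derivation A B) ?_
      rintro _ ⟨x, rfl⟩
      exact (map_eq_zero_iff e e.toRingHom.injective).1 (LinearMap.congr_fun hd0 x)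
    have : f = 0 := by
      refine TensorProduct.AlgebraTensorModule.ext fun c n => ?_
      rw [show c ⊗ₜ[B] n = c • ((1 : q.ResidueField) ⊗ₜ[B] n) by rw [TensorProduct.smul_tmul', smul_eq_mul, mul_one],
        map_smul, show f ((1 : q.ResidueField) ⊗ₜ[B] n) = 0 from LinearMap.congr_fun hg n]
      simp
    rw [this, LinearMap.zero_apply]

end Groth.Agent.QFDualLib
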